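import Groth.Agent.An.H537.SiteCosheaf
import Groth.Agent.An.H886.EtSpace
import Groth.Agent.An.H888.ClsH

/-!
# Opens of an object `A` of the classical site `Cl T`: cosheaf, Mayer-Vietoris

`ZA A : Opens A.E ⥤ Cl.Ab T`, `W ↦ ℤ_{A|W}`, is a cosheaf (`isCosheaf`), so all of
`Groth.Agent.An.H537.Cosheaf` applies; `H (ZA A) G q W = HA (A|W) G q` definitionally, and
`H (ZA A) G q ⊤ ≃+ HA A G q` (`topEquiv`).
-/

set_option autoImplicit false

open CategoryTheory Category Limits Opposite TopologicalSpace Topology An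

noncomputable section

namespace Groth.Agent.An.H537.ClOpens

open Groth.Agent.Proet Cosheaf SiteCosheaf Groth.Agent.An.H886

variable {T : Type} [TopologicalSpace T]

/-- Opens of the total space of an object, as objects of the classical site. -/
def opensF (A : Cl T) : Opens A.E ⥤ Cl T where
  obj W := Cl.restrictOpen A W W.2
  map h := ⟨Set.inclusion h.le, continuous_inclusion h.le, fun _ => rfl⟩
  map_id _ := rfl
  map_comp _ _ := rfl

theorem openLike (A : Cl T) : OpenLike (opensF A) (Cl.topology T) where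
  mono {V U} h := ⟨fun {W} f g hfg => by
    ext x
    have h1 := congrArg (fun k => k.toFun x) hfg
    exact Set.inclusion_injective h h1⟩
  cover {I} U V hi hV := by
    apply EtSpace.mem_topology
    rintro ⟨a, ha⟩
    obtain ⟨i, hi'⟩ := Opens.mem_iSup.1 (hV ha)
    exact ⟨_, (opensF A).map (homOfLE (hi i)), ⟨a, hi'⟩, Sieve.le_generate _ _ _ ⟨i⟩, rfl⟩
  inter {U₁ U₂ V} h₁ h₂ W g₁ g₂ hg := by
    have key : ∀ x : W.E, (g₁.toFun x).1 = (g₂.toFun x).1 := fun x =>
      congrArg Subtype.val (congrArg (fun k => k.toFun x) hg)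
    refine ⟨⟨fun x => ⟨(g₁.toFun x).1, (g₁.toFun x).2, by rw [key]; exact (g₂.toFun x).2⟩,
      Continuous.subtype_mk (continuous_subtype_val.comp g₁.continuous) _, fun x => g₁.over x⟩, ?_, ?_⟩
    · ext x
      rfl
    · ext x
      exact Subtype.ext (key x)
  refine {U} S hS y hy := by
    obtain ⟨B, g, hSg, hg, b, hb⟩ := hS ⟨y, hy⟩
    let V : Opens A.E := ⟨Subtype.val '' (Set.range g.toFun),
      U.isOpen.isOpenMap_subtype_val _ hg.isOpen_range⟩
    have hV : V ≤ U := by
      rintro _ ⟨x, -, rfl⟩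
      exact x.2
    refine ⟨V, hV, ⟨⟨y, hy⟩, ⟨b, hb⟩, rfl⟩, ?_⟩
    have hmem : ∀ x : V, (⟨x.1, hV x.2⟩ : U) ∈ Set.range g.toFun := by
      rintro ⟨_, ⟨x, hx, rfl⟩⟩
      exact hx
    let k : (opensF A).obj V ⟶ B :=
      { toFun := fun x => hg.isEmbedding.toHomeomorph.symm ⟨⟨x.1, hV x.2⟩, hmem x⟩
        continuous := hg.isEmbedding.toHomeomorph.symm.continuous.comp
          (Continuous.subtype_mk (Continuous.subtype_mk continuous_subtype_val _) _)
        over := fun x => by
          have h1 : g.toFun (hg.isEmbedding.toHomeomorph.symm ⟨⟨x.1, hV x.2⟩, hmem x⟩) =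
              ⟨x.1, hV x.2⟩ := by
            have := congrArg Subtype.val (hg.isEmbedding.toHomeomorph.apply_symm_apply
              ⟨⟨x.1, hV x.2⟩, hmem x⟩)
            rw [IsEmbedding.toHomeomorph_apply_coe] at this
            exact this
          rw [← g.over, h1]
          rfl }
    have hk : k ≫ g = (opensF A).map (homOfLE hV) := by
      ext x
      have := congrArg Subtype.val (hg.isEmbedding.toHomeomorph.apply_symm_apply
        ⟨⟨x.1, hV x.2⟩, hmem x⟩)
      rw [IsEmbedding.toHomeomorph_apply_coe] at this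
      exact this
    rw [← hk]
    exact S.downward_closed hSg k

/-- `W ↦ ℤ_{A|W}`. -/
abbrev ZA (A : Cl T) : Opens A.E ⥤ Cl.Ab T := opensF A ⋙ ZU.zF.{1} (Cl.topology T)

theorem isCosheaf (A : Cl T) : IsCosheaf (ZA A) := (openLike A).isCosheaf

/-- `A|⊤ ≅ A`. -/
def topIso (A : Cl T) : (opensF A).obj ⊤ ≅ A where
  hom := ⟨Subtype.val, continuous_subtype_val, fun _ => rfl⟩
  inv := ⟨fun x => ⟨x, trivial⟩, continuous_id.subtype_mk _, fun _ => rfl⟩
  hom_inv_id := rfl
  inv_hom_id := rfl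

/-- The inclusion `A|W ⟶ A`. -/
def incl (A : Cl T) (W : Opens A.E) : (opensF A).obj W ⟶ A :=
  ⟨Subtype.val, continuous_subtype_val, fun _ => rfl⟩

theorem map_comp_topIso_hom (A : Cl T) (W : Opens A.E) :
    (opensF A).map (homOfLE (le_top : W ≤ ⊤)) ≫ (topIso A).hom = incl A W := rfl

/-- Classes on `A|⊤` are classes on `A`. -/
def topEquiv (A : Cl T) (G : Cl.Ab T) (q : ℕ) :
    H888.ClsH.HA A G q ≃+ Gen.H.{1} (ZA A) G q (⊤ : Opens A.E) :=
  ZU.extPrecompIso ((ZU.zF.{1} (Cl.topology T)).mapIso (topIso A)) G q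

theorem topEquiv_apply (A : Cl T) (G : Cl.Ab T) (q : ℕ) (x : H888.ClsH.HA A G q) :
    topEquiv A G q x = H888.ClsH.res (topIso A).hom x := rfl

/-- Restriction to an open, through `⊤`. -/
theorem r_topEquiv (A : Cl T) (G : Cl.Ab T) (q : ℕ) (W : Opens A.E) (x : H888.ClsH.HA A G q) :
    r (ZA A) G q (le_top : W ≤ ⊤) (topEquiv A G q x) = H888.ClsH.res (incl A W) x :=
  H888.ClsH.res_res (topIso A).hom ((opensF A).map (homOfLE (le_top : W ≤ ⊤))) x

end Groth.Agent.An.H537.ClOpens
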