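import Mathlib.Topology.Order.IntermediateValue
import Mathlib.Topology.MetricSpace.Pseudo.Defs
import Mathlib.Topology.Instances.Real.Lemmas

/-!
# Induction over boxes in `ℝ^ι`

`box_induction`: a hereditary property of open boxes which holds locally and can be glued along
overlapping halves holds for some open neighbourhood box of every compact box.
-/

set_option autoImplicit false

open Set Function Filter Topology

namespace Groth.Agent.An.H537.BoxInd

theorem interval_induction (R : ℝ → ℝ → Prop)
    (her : ∀ s t s' t', R s t → s ≤ s' → t' ≤ t → R s' t')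
    (glue : ∀ s c d t, s < c → c < d → d < t → R s d → R c t → R s t)
    {α β : ℝ} (hαβ : α ≤ β)
    (loc : ∀ x, α ≤ x → x ≤ β → ∃ s t, s < x ∧ x < t ∧ R s t) :
    ∃ s t, s < α ∧ β < t ∧ R s t := by
  let S : Set ℝ := {x | ∃ s t, s < α ∧ x < t ∧ R s t}
  have key : Icc α β ⊆ S := by
    apply IsClosed.Icc_subset_of_forall_exists_gt
    · apply isClosed_of_closure_subset
      intro x hx
      have hxI : x ∈ Icc α β := isClosed_Icc.closure_subset_iff.2 inter_subset_right hx
      refine ⟨?_, hxI⟩
      obtain ⟨s0, t0, hs0, ht0, h0⟩ := loc x hxI.1 hxI.2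
      obtain ⟨y, hy, ⟨⟨s, t, hs, hyt, h⟩, hyI⟩⟩ :=
        mem_closure_iff_nhds.1 hx (Ioo s0 t0) (Ioo_mem_nhds hs0 ht0)
      rcases lt_or_ge x t with hxt | hxt
      · exact ⟨s, t, hs, hxt, h⟩
      · rcases lt_or_ge s s0 with hss | hss
        · exact ⟨s, t0, hs, ht0, glue s s0 t t0 hss (hy.1.trans hyt) (hxt.trans_lt ht0) h h0⟩
        · exact ⟨s, t0, hs, ht0, her _ _ _ _ h0 hss le_rfl⟩
    · exact loc α le_rfl hαβ
    · rintro x ⟨⟨s, t, hs, hx, h⟩, hx'⟩ y hy
      obtain ⟨z, hz1, hz2⟩ := exists_between (lt_min hx hy)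
      exact ⟨z, ⟨s, t, hs, hz2.trans_le (min_le_left _ _), h⟩, hz1, hz2.le.trans (min_le_right _ _)⟩
  obtain ⟨s, t, h1, h2, h3⟩ := key (right_mem_Icc.2 hαβ)
  exact ⟨s, t, h1, h2, h3⟩

variable {ι : Type*} [Fintype ι] [DecidableEq ι]

theorem box_induction (P : (ι → ℝ) → (ι → ℝ) → Prop)
    (her : ∀ a b a' b', P a b → a ≤ a' → b' ≤ b → P a' b')
    (glue : ∀ a b i c d, a i < c → c < d → d < b i → P a (update b i d) → P (update a i c) b →
      P a b)
    {α β : ι → ℝ} (hαβ : α ≤ β)
    (loc : ∀ x, α ≤ x → x ≤ β → ∃ a b, (∀ i, a i < x i) ∧ (∀ i, x i < b i) ∧ P a b) :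
    ∃ a b, (∀ i, a i < α i) ∧ (∀ i, β i < b i) ∧ P a b := by
  have key : ∀ s : Finset ι, ∀ α' β' : ι → ℝ, α ≤ α' → α' ≤ β' → β' ≤ β →
      (∀ i, i ∉ s → α' i = β' i) → ∃ a b, (∀ i, a i < α' i) ∧ (∀ i, β' i < b i) ∧ P a b := by
    intro s
    induction s using Finset.induction_on with
    | empty =>
      intro α' β' h1 h2 h3 h4
      obtain rfl : α' = β' := funext fun i => h4 i (Finset.notMem_empty i)
      exact loc α' h1 h3
    | insert j s hj ih =>
      intro α' β' h1 h2 h3 h4
      let R : ℝ → ℝ → Prop := fun p q => ∃ a b, (∀ i, i ≠ j → a i < α' i) ∧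
        (∀ i, i ≠ j → β' i < b i) ∧ P (update a j p) (update b j q)
      obtain ⟨p, q, hp, hq, a, b, ha, hb, hP⟩ := interval_induction R (by
        rintro p q p' q' ⟨a, b, ha, hb, hP⟩ hp hq
        exact ⟨a, b, ha, hb, her _ _ _ _ hP (update_le_update_iff.2 ⟨hp, fun _ _ => le_rfl⟩)
          (update_le_update_iff.2 ⟨hq, fun _ _ => le_rfl⟩)⟩) (by
        rintro p c d q h1 h2 h3 ⟨a, b, ha, hb, hP⟩ ⟨a', b', ha', hb', hP'⟩
        refine ⟨a ⊔ a', b ⊓ b', fun i hi => max_lt (ha i hi) (ha' i hi),
          fun i hi => lt_min (hb i hi) (hb' i hi), ?_⟩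
        apply glue _ _ j c d
        · rwa [update_self]
        · exact h2
        · rwa [update_self]
        · rw [update_idem]
          exact her _ _ _ _ hP (update_le_update_iff.2 ⟨le_rfl, fun _ _ => le_sup_left⟩)
            (update_le_update_iff.2 ⟨le_rfl, fun _ _ => inf_le_left⟩)
        · rw [update_idem]
          exact her _ _ _ _ hP' (update_le_update_iff.2 ⟨le_rfl, fun _ _ => le_sup_right⟩)
            (update_le_update_iff.2 ⟨le_rfl, fun _ _ => inf_le_right⟩)) (h2 j) (by
        intro x hx1 hx2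
        obtain ⟨a, b, ha, hb, hP⟩ := ih (update α' j x) (update β' j x)
          (le_update_iff.2 ⟨(h1 j).trans hx1, fun i _ => h1 i⟩)
          (update_le_update_iff.2 ⟨le_rfl, fun i _ => h2 i⟩)
          (update_le_iff.2 ⟨hx2.trans (h3 j), fun i _ => h3 i⟩) (fun i hi => by
            by_cases hij : i = j
            · subst hij
              rw [update_self, update_self]
            · rw [update_of_ne hij, update_of_ne hij]
              exact h4 i (by simp [hij, hi]))
        refine ⟨a j, b j, ?_, ?_, a, b, fun i hi => ?_, fun i hi => ?_, ?_⟩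
        · simpa using ha j
        · simpa using hb j
        · simpa [hi] using ha i
        · simpa [hi] using hb i
        · rwa [update_eq_self, update_eq_self])
      refine ⟨update a j p, update b j q, fun i => ?_, fun i => ?_, hP⟩
      · by_cases hij : i = j
        · subst hij
          rwa [update_self]
        · rw [update_of_ne hij]
          exact ha i hij
      · by_cases hij : i = j
        · subst hij
          rwa [update_self]
        · rw [update_of_ne hij]
          exact hb i hij
  exact key Finset.univ α β le_rfl hαβ le_rfl (fun i hi => absurd (Finset.mem_univ i) hi)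

end Groth.Agent.An.H537.BoxInd
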