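import Groth.Agent.An.H537.Cosheaf
import Groth.Agent.An.H537.BoxInd

/-!
# Vanishing of cohomology on boxes of `ℝ^ι` for locally constant coefficients

`Z : Opens (ι → ℝ) ⥤ A` a cosheaf, `F : A` locally constant on boxes (`LCBox Z F`). Then
* `bijective_top` : `F(ℝ^ι) → F(V)` is bijective for every nonempty bounded open box `V`;
* `eq_zero_obox`, `eq_zero_top` : `H^q(V, F) = 0`, `H^q(ℝ^ι, F) = 0` for `q > 0`.
-/

set_option autoImplicit false
universe w v u t

open CategoryTheory Category Limits Abelian TopologicalSpace Set Function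

noncomputable section

namespace Groth.Agent.An.H537.Box

open Gen Cosheaf

section Bij

variable {Y : Type t} [TopologicalSpace Y] {A : Type u} [Category.{v} A] (Z : Opens Y ⥤ A) (F : A)

/-- The restriction `F(U) → F(V)`, `V ≤ U`, is bijective. -/
def Bij {U V : Opens Y} (h : V ≤ U) : Prop := Bijective (fun f : Z.obj U ⟶ F => ι Z h ≫ f)

variable {Z F}

theorem Bij.comp {U V W : Opens Y} {h : V ≤ U} {h' : W ≤ V} (H : Bij Z F h) (H' : Bij Z F h') :
    Bij Z F (h'.trans h) := by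
  have := Bijective.comp H' H
  refine (Eq.mp ?_ this)
  unfold Bij
  congr 1
  funext f
  rw [comp_apply, ← assoc, ι_comp]

theorem Bij.of_comp_right {U V W : Opens Y} {h : V ≤ U} {h' : W ≤ V} (H : Bij Z F h)
    (H' : Bij Z F (h'.trans h)) : Bij Z F h' := by
  have e : (fun f : Z.obj U ⟶ F => ι Z (h'.trans h) ≫ f) =
      (fun f : Z.obj V ⟶ F => ι Z h' ≫ f) ∘ (fun f : Z.obj U ⟶ F => ι Z h ≫ f) := by
    funext f
    rw [comp_apply, ← assoc, ι_comp]
  unfold Bij at H'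
  rw [e] at H'
  exact (Bijective.of_comp_iff _ H).1 H'

theorem Bij.of_comp_left {U V W : Opens Y} {h : V ≤ U} {h' : W ≤ V} (H : Bij Z F h')
    (H' : Bij Z F (h'.trans h)) : Bij Z F h := by
  have e : (fun f : Z.obj U ⟶ F => ι Z (h'.trans h) ≫ f) =
      (fun f : Z.obj V ⟶ F => ι Z h' ≫ f) ∘ (fun f : Z.obj U ⟶ F => ι Z h ≫ f) := by
    funext f
    rw [comp_apply, ← assoc, ι_comp]
  unfold Bij at H'
  rw [e] at H'
  exact (Bijective.of_comp_iff' H _).1 H'

end Bij

section Glue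

variable {Y : Type t} [TopologicalSpace Y] {A : Type u} [Category.{v} A]
  {Z : Opens Y ⥤ A} (hZ : IsCosheaf Z) {F : A}
include hZ

theorem Bij.glue_left {W₁ W₂ : Opens Y} (H : Bij Z F (inf_le_right : W₁ ⊓ W₂ ≤ W₂)) :
    Bij Z F (le_sup_left : W₁ ≤ W₁ ⊔ W₂) := by
  constructor
  · intro f g hfg
    apply hZ.hom_ext₂ hfg
    apply H.1
    dsimp only at hfg ⊢
    rw [ι_ι_assoc le_sup_right inf_le_right le_sup_left inf_le_left, hfg,
      ← ι_ι_assoc le_sup_right inf_le_right le_sup_left inf_le_left]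
  · intro s
    obtain ⟨s', hs'⟩ := H.2 (ι Z inf_le_left ≫ s)
    obtain ⟨f, h1, h2⟩ := hZ.glue₂ s s' hs'.symm
    exact ⟨f, h1⟩

theorem Bij.glue_right {W₁ W₂ : Opens Y} (H : Bij Z F (inf_le_left : W₁ ⊓ W₂ ≤ W₁)) :
    Bij Z F (le_sup_right : W₂ ≤ W₁ ⊔ W₂) := by
  constructor
  · intro f g hfg
    refine hZ.hom_ext₂ ?_ hfg
    apply H.1
    dsimp only at hfg ⊢
    rw [ι_ι_assoc le_sup_left inf_le_left le_sup_right inf_le_right, hfg,
      ← ι_ι_assoc le_sup_left inf_le_left le_sup_right inf_le_right]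
  · intro s
    obtain ⟨s', hs'⟩ := H.2 (ι Z inf_le_right ≫ s)
    obtain ⟨f, h1, h2⟩ := hZ.glue₂ s' s hs'
    exact ⟨f, h2⟩

/-- Sections over an increasing union. -/
theorem Bij.iSup (W : ℕ → Opens Y) (hW : ∀ n, W n ≤ W (n + 1)) (H : ∀ n, Bij Z F (hW n)) (n : ℕ) :
    Bij Z F (le_iSup W n) := by
  have hmono : Monotone W := monotone_nat_of_le_succ hW
  have H' : ∀ n m (hnm : n ≤ m), Bij Z F (hmono hnm) := by
    intro n m hnm
    induction m, hnm using Nat.le_induction with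
    | base =>
      unfold Bij
      have : (fun f : Z.obj (W n) ⟶ F => ι Z (hmono le_rfl) ≫ f) = id := by
        funext f
        rw [ι_refl]
        exact Category.id_comp f
      rw [this]
      exact bijective_id
    | succ m hm ih => exact (H m).comp ih
  constructor
  · intro f g hfg
    refine hZ.hom_ext W (_root_.iSup W) (le_iSup W) le_rfl f g (fun m => ?_)
    rcases le_total m n with h | h
    · have := congrArg (fun z => ι Z (hmono h) ≫ z) hfg
      dsimp only at this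
      rw [← assoc, ← assoc, ι_comp] at this
      exact this
    · apply (H' n m h).1
      dsimp only at hfg ⊢
      rw [← assoc, ← assoc, ι_comp]
      exact hfg
  · intro s
    have h1 : ∀ m, ∃! t : Z.obj (W m) ⟶ F, ∃ (k : ℕ) (hk : n ≤ k) (hm : m ≤ k)
      (u : Z.obj (W k) ⟶ F), ι Z (hmono hk) ≫ u = s ∧ ι Z (hmono hm) ≫ u = t := by
      intro m
      obtain ⟨u, hu⟩ := (H' n (max n m) (le_max_left _ _)).2 s
      refine ⟨ι Z (hmono (le_max_right n m)) ≫ u, ⟨max n m, le_max_left _ _, le_max_right _ _, u,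
        hu, rfl⟩, ?_⟩
      rintro t ⟨k, hk, hm, u', hu', rfl⟩
      have hk' : max n m ≤ k := max_le hk hm
      have : ι Z (hmono hk') ≫ u' = u := by
        apply (H' n (max n m) (le_max_left _ _)).1
        dsimp only at hu ⊢
        rw [← assoc, ι_comp, hu', hu]
      rw [← this, ← assoc, ι_comp]
    choose t ht ht' using h1
    obtain ⟨f, hf⟩ := hZ.glue W (_root_.iSup W) (le_iSup W) le_rfl t (by
      intro i j
      have aux : ∀ i j, i ≤ j → ι Z (hmono (show i ≤ i ⊔ j from le_sup_left)) ≫ t (i ⊔ j) = t i := by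
        intro i j hij
        obtain ⟨k, hk, hm, u, h1, h2⟩ := ht (i ⊔ j)
        refine ht' i _ ⟨k, hk, le_sup_left.trans hm, u, h1, ?_⟩
        rw [← h2, ← assoc, ι_comp]
      have aux' : ∀ i j (hij : i ≤ j), ι Z (hmono hij) ≫ t j = t i := by
        intro i j hij
        obtain ⟨k, hk, hm, u, h1, h2⟩ := ht j
        refine ht' i _ ⟨k, hk, hij.trans hm, u, h1, ?_⟩
        rw [← h2, ← assoc, ι_comp]
      rcases le_total i j with hij | hij
      · rw [← aux' i j hij, ← assoc, ι_comp]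
      · rw [← aux' j i hij, ← assoc, ι_comp])
    refine ⟨f, ?_⟩
    dsimp only
    rw [hf n]
    obtain ⟨k, hk, hm, u, h1, h2⟩ := ht n
    rw [← h2, ← h1]

end Glue

section Box

variable {n : Type} [Fintype n] [DecidableEq n]

omit [DecidableEq n] in
/-- An open box of `ℝ^n`. -/
def obox (a b : n → ℝ) : Opens (n → ℝ) :=
  ⟨{x | ∀ i, a i < x i ∧ x i < b i}, by
    have : {x : n → ℝ | ∀ i, a i < x i ∧ x i < b i} = Set.pi univ (fun i => Ioo (a i) (b i)) := by
      ext x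
      simp [Set.mem_pi]
    rw [this]
    exact isOpen_set_pi finite_univ (fun i _ => isOpen_Ioo)⟩

omit [DecidableEq n] in
theorem mem_obox {a b x : n → ℝ} : x ∈ obox a b ↔ ∀ i, a i < x i ∧ x i < b i := Iff.rfl

omit [DecidableEq n] in
theorem obox_mono {a b a' b' : n → ℝ} (ha : a ≤ a') (hb : b' ≤ b) : obox a' b' ≤ obox a b :=
  fun _ hx i => ⟨(ha i).trans_lt (hx i).1, (hx i).2.trans_le (hb i)⟩

theorem mem_obox_update_right {a b x : n → ℝ} {i : n} {d : ℝ} (hd : d ≤ b i) :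
    x ∈ obox a (update b i d) ↔ x ∈ obox a b ∧ x i < d := by
  constructor
  · intro h
    refine ⟨fun j => ⟨(h j).1, ?_⟩, by simpa using (h i).2⟩
    by_cases hij : j = i
    · subst hij
      exact lt_of_lt_of_le (by simpa using (h j).2) hd
    · simpa [hij] using (h j).2
  · rintro ⟨h, h'⟩ j
    refine ⟨(h j).1, ?_⟩
    by_cases hij : j = i
    · subst hij
      simpa using h'
    · simpa [hij] using (h j).2

theorem mem_obox_update_left {a b x : n → ℝ} {i : n} {c : ℝ} (hc : a i ≤ c) :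
    x ∈ obox (update a i c) b ↔ x ∈ obox a b ∧ c < x i := by
  constructor
  · intro h
    refine ⟨fun j => ⟨?_, (h j).2⟩, by simpa using (h i).1⟩
    by_cases hij : j = i
    · subst hij
      exact lt_of_le_of_lt hc (by simpa using (h j).1)
    · simpa [hij] using (h j).1
  · rintro ⟨h, h'⟩ j
    refine ⟨?_, (h j).2⟩
    by_cases hij : j = i
    · subst hij
      simpa using h'
    · simpa [hij] using (h j).1

theorem obox_sup {a b : n → ℝ} {i : n} {c d : ℝ} (hc : a i < c) (hcd : c < d) (hd : d < b i) :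
    obox a (update b i d) ⊔ obox (update a i c) b = obox a b := by
  ext x
  rw [Opens.coe_sup, mem_union]
  change (x ∈ obox a (update b i d) ∨ x ∈ obox (update a i c) b) ↔ x ∈ obox a b
  rw [mem_obox_update_right hd.le, mem_obox_update_left hc.le]
  constructor
  · rintro (h | h)
    exacts [h.1, h.1]
  · intro h
    rcases lt_or_ge (x i) d with h' | h'
    · exact Or.inl ⟨h, h'⟩
    · exact Or.inr ⟨h, hcd.trans_le h'⟩

theorem obox_inf {a b : n → ℝ} {i : n} {c d : ℝ} (hc : a i < c) (hd : d < b i) :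
    obox a (update b i d) ⊓ obox (update a i c) b = obox (update a i c) (update b i d) := by
  ext x
  rw [Opens.coe_inf, mem_inter_iff]
  change (x ∈ obox a (update b i d) ∧ x ∈ obox (update a i c) b) ↔
    x ∈ obox (update a i c) (update b i d)
  rw [mem_obox_update_right hd.le, mem_obox_update_left hc.le, mem_obox_update_left (b := update b i d)
    hc.le, mem_obox_update_right hd.le]
  tauto

variable {A : Type u} [Category.{v} A] (Z : Opens (n → ℝ) ⥤ A) (F : A)

omit [DecidableEq n] in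
/-- All nonempty subboxes of `obox a b` have the same sections. -/
def Good (a b : n → ℝ) : Prop := ∀ (a₁ b₁ a₂ b₂ : n → ℝ) (_ : a ≤ a₁) (h : a₁ ≤ a₂) (h' : b₂ ≤ b₁)
  (_ : b₁ ≤ b), (∀ i, a₂ i < b₂ i) → Bij Z F (obox_mono h h')

omit [DecidableEq n] in
/-- `F` is locally constant, expressed on boxes. -/
def LCBox : Prop := ∀ x : n → ℝ, ∃ a b, (∀ i, a i < x i) ∧ (∀ i, x i < b i) ∧ Good Z F a b

variable {Z F}

theorem Bij.congr' {Y : Type*} [TopologicalSpace Y] {Z : Opens Y ⥤ A} {U V U' V' : Opens Y}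
    {h : V ≤ U} (H : Bij Z F h) (eU : U = U') (eV : V = V') (h' : V' ≤ U') : Bij Z F h' := by
  subst eU eV
  exact H

theorem good_glue (hZ : IsCosheaf Z) (a b : n → ℝ) (i : n) (c d : ℝ) (_ : a i < c) (hcd : c < d)
    (_ : d < b i) (H₁ : Good Z F a (update b i d)) (H₂ : Good Z F (update a i c) b) :
    Good Z F a b := by
  -- cutting a box
  have cut : ∀ (a₁ b₁ : n → ℝ) (h₁ : a ≤ a₁) (h₂ : b₁ ≤ b) (h₃ : a₁ i < c) (h₄ : d < b₁ i)
      (_ : ∀ i, a₁ i < b₁ i) (h5 : update b₁ i d ≤ b₁), Bij Z F (obox_mono (le_refl a₁) h5) := by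
    intro a₁ b₁ h₁ h₂ h₃ h₄ hab h5
    have := Bij.glue_left hZ (W₁ := obox a₁ (update b₁ i d)) (W₂ := obox (update a₁ i c) b₁)
      (F := F) (Bij.congr' (H₂ (update a₁ i c) b₁ (update a₁ i c) (update b₁ i d)
        (update_le_update_iff.2 ⟨le_rfl, fun j _ => h₁ j⟩) le_rfl h5 h₂ (fun j => by
          by_cases hij : j = i
          · subst hij
            simpa using hcd
          · simpa [hij] using hab j)) rfl (obox_inf h₃ h₄).symm inf_le_right)
    exact this.congr' (obox_sup h₃ hcd h₄) rfl _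
  have cut' : ∀ (a₁ b₁ : n → ℝ) (h₁ : a ≤ a₁) (h₂ : b₁ ≤ b) (h₃ : a₁ i < c) (h₄ : d < b₁ i)
      (_ : ∀ i, a₁ i < b₁ i) (h5 : a₁ ≤ update a₁ i c), Bij Z F (obox_mono h5 (le_refl b₁)) := by
    intro a₁ b₁ h₁ h₂ h₃ h₄ hab h5
    have := Bij.glue_right hZ (W₁ := obox a₁ (update b₁ i d)) (W₂ := obox (update a₁ i c) b₁)
      (F := F) (Bij.congr' (H₁ a₁ (update b₁ i d) (update a₁ i c) (update b₁ i d) h₁
        h5 le_rfl (update_le_update_iff.2 ⟨le_rfl, fun j _ => h₂ j⟩) (fun j => by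
          by_cases hij : j = i
          · subst hij
            simpa using hcd
          · simpa [hij] using hab j)) rfl (obox_inf h₃ h₄).symm inf_le_left)
    exact this.congr' (obox_sup h₃ hcd h₄) rfl _
  intro a₁ b₁ a₂ b₂ h₁ h₂ h₃ h₄ hab
  have hab₁ : ∀ j, a₁ j < b₁ j := fun j => (h₂ j).trans_lt ((hab j).trans_le (h₃ j))
  rcases le_or_gt (b₁ i) d with hd | hd
  · exact H₁ a₁ b₁ a₂ b₂ h₁ h₂ h₃ (le_update_iff.2 ⟨hd, fun j _ => h₄ j⟩) hab
  rcases le_or_gt c (a₁ i) with hc | hc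
  · exact H₂ a₁ b₁ a₂ b₂ (update_le_iff.2 ⟨hc, fun j _ => h₁ j⟩) h₂ h₃ h₄ hab
  have e₁ : update b₁ i d ≤ b₁ := update_le_iff.2 ⟨hd.le, fun _ _ => le_rfl⟩
  have e₂ : a₁ ≤ update a₁ i c := le_update_iff.2 ⟨hc.le, fun _ _ => le_rfl⟩
  rcases le_or_gt (b₂ i) d with hd' | hd'
  · exact (cut a₁ b₁ h₁ h₄ hc hd hab₁ e₁).comp (H₁ a₁ (update b₁ i d) a₂ b₂ h₁ h₂
      (le_update_iff.2 ⟨hd', fun j _ => h₃ j⟩) (update_le_update_iff.2 ⟨le_rfl, fun j _ => h₄ j⟩) hab)
  rcases le_or_gt c (a₂ i) with hc' | hc'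
  · exact (cut' a₁ b₁ h₁ h₄ hc hd hab₁ e₂).comp (H₂ (update a₁ i c) b₁ a₂ b₂
      (update_le_update_iff.2 ⟨le_rfl, fun j _ => h₁ j⟩)
      (update_le_iff.2 ⟨hc', fun j _ => h₂ j⟩) h₃ h₄ hab)
  have e₃ : update b₂ i d ≤ b₂ := update_le_iff.2 ⟨hd'.le, fun _ _ => le_rfl⟩
  have e₄ : update b₂ i d ≤ update b₁ i d := update_le_update_iff.2 ⟨le_rfl, fun j _ => h₃ j⟩
  refine Bij.of_comp_left (cut a₂ b₂ (h₁.trans h₂) (h₃.trans h₄) hc' hd' hab e₃) ?_
  exact (cut a₁ b₁ h₁ h₄ hc hd hab₁ e₁).comp (H₁ a₁ (update b₁ i d) a₂ (update b₂ i d) h₁ h₂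
      e₄ (update_le_update_iff.2 ⟨le_rfl, fun j _ => h₄ j⟩) (fun j => by
          by_cases hij : j = i
          · subst hij
            simpa using hc'.trans hcd
          · simpa [hij] using hab j))

/-- Sections of a locally constant sheaf on nested boxes. -/
theorem good_of_lcBox (hZ : IsCosheaf Z) (hF : LCBox Z F) (a b : n → ℝ) : Good Z F a b := by
  by_cases hab : a ≤ b
  · obtain ⟨a', b', ha, hb, H⟩ := BoxInd.box_induction (Good Z F)
      (fun a b a' b' H ha hb a₁ b₁ a₂ b₂ h₁ h₂ h₃ h₄ => H a₁ b₁ a₂ b₂ (ha.trans h₁) h₂ h₃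
        (h₄.trans hb)) (good_glue hZ) hab (fun x _ _ => hF x)
    intro a₁ b₁ a₂ b₂ h₁ h₂ h₃ h₄
    exact H a₁ b₁ a₂ b₂ (le_trans (fun i => (ha i).le) h₁) h₂ h₃ (h₄.trans (fun i => (hb i).le))
  · intro a₁ b₁ a₂ b₂ h₁ h₂ h₃ h₄ h
    exact absurd (fun i => ((h₁.trans h₂) i).trans ((h i).le.trans ((h₃.trans h₄) i))) hab

end Box

end Groth.Agent.An.H537.Box
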