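import Groth.Agent.An.H537.Box
import Mathlib.Analysis.SpecificLimits.Basic

/-!
# Vanishing of higher cohomology on boxes for locally constant coefficients

`Z : Opens (n → ℝ) ⥤ A` a cosheaf, `F : A` with `LCBox Z F`:
* `bij_top` : `F(ℝ^n) → F(V)` is bijective for every nonempty open box `V`;
* `eq_zero_obox`, `eq_zero_top` : `H^q(V, F) = 0` and `H^q(ℝ^n, F) = 0` for `q > 0`.
-/

set_option autoImplicit false
universe w v u t

open CategoryTheory Category Limits Abelian TopologicalSpace Set Function Filter Topology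

noncomputable section

namespace Groth.Agent.An.H537.BoxVan

open Gen Cosheaf Box

section

variable {Y : Type t} [TopologicalSpace Y] {A : Type u} [Category.{v} A] [Abelian A] [HasExt.{w} A]
  [EnoughInjectives A] {Z : Opens Y ⥤ A} (hZ : IsCosheaf Z) {F : A}
include hZ

theorem eq_zero_of_exhaust' (q : ℕ) (W : ℕ → Opens Y) (hW : ∀ n, W n ≤ W (n + 1))
    (hs : ∀ n, Function.Surjective (r Z F q (hW n))) {V : Opens Y} (hV : V ≤ iSup W)
    (hWV : ∀ n, W n ≤ V)
    (x : H Z F (q + 1) V) (h : ∀ n, r Z F (q + 1) (hWV n) x = 0) : x = 0 := by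
  obtain rfl : iSup W = V := le_antisymm (iSup_le hWV) hV
  exact eq_zero_of_exhaust hZ q F W hW hs x h

end

variable {n : Type} [Fintype n] {A : Type u} [Category.{v} A] [Abelian A] [HasExt.{w} A]
  {Z : Opens (n → ℝ) ⥤ A}

variable (Z) in
/-- Classes of degree `q` extend from boxes to larger boxes. -/
def Surj (F : A) (q : ℕ) : Prop := ∀ (a₁ b₁ a₂ b₂ : n → ℝ) (h : a₁ ≤ a₂) (h' : b₂ ≤ b₁),
  (∀ i, a₂ i < b₂ i) → Surjective (r Z F q (obox_mono h h'))

variable {F : A}

theorem surj_zero (h : ∀ a b, Good Z F a b) : Surj Z F 0 := by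
  intro a₁ b₁ a₂ b₂ h₁ h₂ hab x
  obtain ⟨f, rfl⟩ := exists_mk₀ Z x
  obtain ⟨g, hg⟩ := (h a₁ b₁ a₁ b₁ a₂ b₂ le_rfl h₁ h₂ le_rfl hab).2 f
  refine ⟨Ext.mk₀ g, ?_⟩
  rw [res_mk₀]
  exact congrArg Ext.mk₀ hg

variable [EnoughInjectives A] [DecidableEq n] (hZ : IsCosheaf Z)
include hZ

/-- A class vanishes on compact boxes. -/
theorem vanish_compact {q : ℕ} (hs : Surj Z F q) {a b : n → ℝ} (x : H Z F (q + 1) (obox a b))
    {α β : n → ℝ} (hα : ∀ i, a i < α i) (hβ : ∀ i, β i < b i) (hαβ : ∀ i, α i < β i) :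
    r Z F (q + 1) (obox_mono (fun i => (hα i).le) (fun i => (hβ i).le)) x = 0 := by
  obtain ⟨a', b', ha, hb, H⟩ := BoxInd.box_induction (fun a₁ b₁ => ∀ (a₂ b₂ : n → ℝ) (h₁ : a ≤ a₂)
    (h₂ : b₂ ≤ b) (_ : a₁ ≤ a₂) (_ : b₂ ≤ b₁) (_ : ∀ i, a₂ i < b₂ i),
      r Z F (q + 1) (obox_mono h₁ h₂) x = 0)
    (fun a₁ b₁ a₁' b₁' H ha hb a₂ b₂ h₁ h₂ h₃ h₄ h₅ => H a₂ b₂ h₁ h₂ (ha.trans h₃) (h₄.trans hb) h₅)
    (by
      intro a₁ b₁ i c d hc hcd hd H₁ H₂ a₂ b₂ h₁ h₂ h₃ h₄ hab
      rcases le_or_gt (b₂ i) d with hd' | hd'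
      · exact H₁ a₂ b₂ h₁ h₂ h₃ (le_update_iff.2 ⟨hd', fun j _ => h₄ j⟩) hab
      rcases le_or_gt c (a₂ i) with hc' | hc'
      · exact H₂ a₂ b₂ h₁ h₂ (update_le_iff.2 ⟨hc', fun j _ => h₃ j⟩) h₄ hab
      have e₁ : update b₂ i d ≤ b₂ := update_le_iff.2 ⟨hd'.le, fun _ _ => le_rfl⟩
      have e₂ : a₂ ≤ update a₂ i c := le_update_iff.2 ⟨hc'.le, fun _ _ => le_rfl⟩
      have key : ∀ (U : Opens (n → ℝ)) (hU : U ≤ obox a b)
        (_ : obox a₂ (update b₂ i d) ⊔ obox (update a₂ i c) b₂ = U), r Z F (q + 1) hU x = 0 := by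
        rintro U hU rfl
        refine mv_eq_zero hZ ?_ _ ?_ ?_
        · have hsur := hs a₂ (update b₂ i d) (update a₂ i c) (update b₂ i d) e₂ le_rfl (fun j => by
            by_cases hij : j = i
            · subst hij
              simpa using hcd
            · simpa [hij] using hab j)
          have aux : ∀ (V : Opens (n → ℝ)) (hV : V ≤ obox a₂ (update b₂ i d)),
              obox (update a₂ i c) (update b₂ i d) = V → Surjective (r Z F q hV) := by
            rintro V hV rfl
            exact hsur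
          exact aux _ _ (obox_inf hc' hd').symm
        · rw [r_r]
          exact H₁ a₂ (update b₂ i d) h₁ (e₁.trans h₂) h₃
            (update_le_update_iff.2 ⟨le_rfl, fun j _ => h₄ j⟩) (fun j => by
              by_cases hij : j = i
              · subst hij
                simpa using hc'.trans hcd
              · simpa [hij] using hab j)
        · rw [r_r]
          exact H₂ (update a₂ i c) b₂ (h₁.trans e₂) h₂
            (update_le_update_iff.2 ⟨le_rfl, fun j _ => h₃ j⟩) h₄ (fun j => by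
              by_cases hij : j = i
              · subst hij
                simpa using hcd.trans hd'
              · simpa [hij] using hab j)
      exact key _ _ (obox_sup hc' hcd hd'))
    (fun i => (hαβ i).le) (by
      intro y hy hy'
      have hyab : y ∈ obox a b := fun i => ⟨(hα i).trans_le (hy i), (hy' i).trans_lt (hβ i)⟩
      obtain ⟨V, hV, hyV, hx⟩ := exists_nhds hZ q F x y hyab
      obtain ⟨ε, hε, hball⟩ := Metric.isOpen_iff.1 V.isOpen y hyV
      refine ⟨fun i => y i - ε, fun i => y i + ε, fun i => by linarith, fun i => by linarith, ?_⟩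
      intro a₂ b₂ h₁ h₂ h₃ h₄ hab
      have hle : obox a₂ b₂ ≤ V := by
        intro z hz
        apply hball
        rw [Metric.mem_ball, dist_pi_lt_iff hε]
        intro i
        rw [Real.dist_eq, abs_lt]
        have h5 := hz i
        have h6 := h₃ i
        have h7 := h₄ i
        dsimp only at h6 h7
        constructor <;> linarith
      have := congrArg (r Z F (q + 1) hle) hx
      rw [r_r, map_zero] at this
      exact this)
  exact H α β (fun i => (hα i).le) (fun i => (hβ i).le) (fun i => (ha i).le) (fun i => (hb i).le) hαβ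

theorem vanish_of_surj {q : ℕ} (hs : Surj Z F q) {a b : n → ℝ} (hab : ∀ i, a i < b i)
    (x : H Z F (q + 1) (obox a b)) : x = 0 := by
  let ε : ℕ → n → ℝ := fun k i => (b i - a i) / ((k : ℝ) + 3)
  have hεpos : ∀ k i, 0 < ε k i := fun k i => div_pos (sub_pos.2 (hab i)) (by positivity)
  have hε : ∀ k i, ε (k + 1) i ≤ ε k i := by
    intro k i
    refine div_le_div_of_nonneg_left (sub_pos.2 (hab i)).le (by positivity) ?_
    push_cast
    linarith
  have hε2 : ∀ k i, 2 * ε k i < b i - a i := by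
    intro k i
    have h1 : 0 < (k : ℝ) + 3 := by positivity
    have h2 : (k : ℝ) + 3 > 2 := by
      have := Nat.cast_nonneg (α := ℝ) k
      linarith
    change 2 * ((b i - a i) / ((k : ℝ) + 3)) < _
    rw [mul_div_assoc', div_lt_iff₀ h1]
    nlinarith [sub_pos.2 (hab i)]
  let W : ℕ → Opens (n → ℝ) := fun k => obox (a + ε k) (b - ε k)
  have hWa : ∀ k, a + ε (k + 1) ≤ a + ε k := fun k i => by simpa using hε k i
  have hWb : ∀ k, b - ε k ≤ b - ε (k + 1) := fun k i => by
    simp only [Pi.sub_apply]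
    linarith [hε k i]
  have hW : ∀ k, W k ≤ W (k + 1) := fun k => obox_mono (hWa k) (hWb k)
  have hWV : ∀ k, W k ≤ obox a b := fun k => obox_mono
    (fun i => by simpa using (hεpos k i).le) (fun i => by simpa using (hεpos k i).le)
  have hlt : ∀ k i, (a + ε k) i < (b - ε k) i := fun k i => by
    simp only [Pi.add_apply, Pi.sub_apply]
    linarith [hε2 k i]
  refine eq_zero_of_exhaust' hZ q W hW (fun k => hs _ _ _ _ (hWa k) (hWb k) (hlt k)) ?_ hWV x
    (fun k => ?_)
  · intro y hy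
    have ht : ∀ i, Tendsto (fun k : ℕ => ε k i) atTop (𝓝 0) := fun i =>
      Tendsto.div_atTop tendsto_const_nhds
        (tendsto_atTop_add_const_right _ _ tendsto_natCast_atTop_atTop)
    have h1 : ∀ᶠ k in atTop, ∀ i, ε k i < y i - a i ∧ ε k i < b i - y i := by
      rw [eventually_all]
      intro i
      exact ((ht i).eventually_lt_const (sub_pos.2 (hy i).1)).and
        ((ht i).eventually_lt_const (sub_pos.2 (hy i).2))
    obtain ⟨k, hk⟩ := h1.exists
    refine Opens.mem_iSup.2 ⟨k, fun i => ?_⟩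
    have := hk i
    constructor
    · simp only [Pi.add_apply]; linarith
    · simp only [Pi.sub_apply]; linarith
  · exact vanish_compact hZ hs x (fun i => by simpa using hεpos k i)
      (fun i => by simpa using hεpos k i) (hlt k)

theorem surj_all (hF : LCBox Z F) (q : ℕ) : Surj Z F q := by
  induction q with
  | zero => exact surj_zero (good_of_lcBox hZ hF)
  | succ q ih =>
    intro a₁ b₁ a₂ b₂ h₁ h₂ hab x
    exact ⟨0, by rw [map_zero, vanish_of_surj hZ ih hab x]⟩

/-- `H^q(V, F) = 0` for a bounded open box `V`, `F` locally constant, `q > 0`. -/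
theorem eq_zero_obox (hF : LCBox Z F) (q : ℕ) {a b : n → ℝ} (hab : ∀ i, a i < b i)
    (x : H Z F (q + 1) (obox a b)) : x = 0 :=
  vanish_of_surj hZ (surj_all hZ hF q) hab x

omit hZ [EnoughInjectives A] [DecidableEq n] in
theorem exists_mem_cube (y : n → ℝ) : ∃ k : ℕ, ∀ i, -((k : ℝ) + 1) < y i ∧ y i < (k : ℝ) + 1 := by
  have h1 : ∀ᶠ k : ℕ in atTop, ∀ i, |y i| < (k : ℝ) + 1 := by
    rw [eventually_all]
    intro i
    exact (tendsto_atTop_add_const_right _ _ tendsto_natCast_atTop_atTop).eventually_gt_atTop _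
  obtain ⟨k, hk⟩ := h1.exists
  exact ⟨k, fun i => abs_lt.1 (hk i)⟩

omit [DecidableEq n] in
/-- The cube `(-k-1, k+1)^n`. -/
abbrev cube (k : ℕ) : Opens (n → ℝ) := obox (fun _ => -((k : ℝ) + 1)) (fun _ => (k : ℝ) + 1)

omit hZ [EnoughInjectives A] [DecidableEq n] [Fintype n] in
theorem cube_le₁ (k : ℕ) : (fun _ : n => -(((k + 1 : ℕ) : ℝ) + 1)) ≤ (fun _ => -((k : ℝ) + 1)) :=
  fun _ => by push_cast; linarith

omit hZ [EnoughInjectives A] [DecidableEq n] [Fintype n] in
theorem cube_le₂ (k : ℕ) : (fun _ : n => ((k : ℝ) + 1)) ≤ (fun _ => ((k + 1 : ℕ) : ℝ) + 1) :=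
  fun _ => by push_cast; linarith

omit hZ [EnoughInjectives A] [DecidableEq n] in
theorem cube_le (k : ℕ) : (cube k : Opens (n → ℝ)) ≤ cube (k + 1) :=
  obox_mono (cube_le₁ k) (cube_le₂ k)

omit hZ [EnoughInjectives A] [DecidableEq n] in
theorem top_le_iSup_cube : (⊤ : Opens (n → ℝ)) ≤ ⨆ k, cube k := fun y _ => by
  obtain ⟨k, hk⟩ := exists_mem_cube y
  exact Opens.mem_iSup.2 ⟨k, hk⟩

/-- `H^q(ℝ^n, F) = 0` for `F` locally constant, `q > 0`. -/
theorem eq_zero_top (hF : LCBox Z F) (q : ℕ) (x : H Z F (q + 1) (⊤ : Opens (n → ℝ))) : x = 0 := by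
  refine eq_zero_of_exhaust' hZ q cube cube_le
    (fun k => surj_all hZ hF q _ _ _ _ (cube_le₁ k) (cube_le₂ k) (fun i => ?_))
    top_le_iSup_cube (fun _ => le_top) x
    (fun k => eq_zero_obox hZ hF q (fun i => ?_) _)
  all_goals
    have := Nat.cast_nonneg (α := ℝ) k
    linarith

omit [EnoughInjectives A] [HasExt.{w} A] in
/-- `F(ℝ^n) → F(V)` is bijective for a nonempty bounded open box `V`, `F` locally constant. -/
theorem bij_top (hF : LCBox Z F) {a b : n → ℝ} (hab : ∀ i, a i < b i) :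
    Bij Z F (le_top : obox a b ≤ ⊤) := by
  have hcube : ∀ (k : ℕ) (i : n), (fun _ : n => -((k : ℝ) + 1)) i < (fun _ : n => (k : ℝ) + 1) i := by
    intro k i
    have := Nat.cast_nonneg (α := ℝ) k
    dsimp only
    linarith
  have h1 : ∀ k, Bij Z F (le_top : cube k ≤ (⊤ : Opens (n → ℝ))) := fun k =>
    (Bij.iSup hZ cube cube_le (fun k => good_of_lcBox hZ hF _ _ _ _ _ _ le_rfl (cube_le₁ k)
      (cube_le₂ k) le_rfl (hcube k)) k).congr' (le_antisymm le_top top_le_iSup_cube) rfl _
  obtain ⟨k, hk⟩ := exists_mem_cube (fun i => max |a i| |b i|)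
  have hle : obox a b ≤ cube k := by
    refine obox_mono (fun i => ?_) (fun i => ?_)
    · have := neg_abs_le (a i)
      have h2 := (hk i).2
      have h3 := le_max_left |a i| |b i|
      linarith
    · have := le_abs_self (b i)
      have h2 := (hk i).2
      have h3 := le_max_right |a i| |b i|
      linarith
  refine (h1 k).comp (h' := hle) ?_
  refine good_of_lcBox hZ hF _ _ _ _ _ _ le_rfl ?_ ?_ le_rfl hab
  · intro i
    have := neg_abs_le (a i)
    have h2 := (hk i).2
    have h3 := le_max_left |a i| |b i|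
    linarith
  · intro i
    have := le_abs_self (b i)
    have h2 := (hk i).2
    have h3 := le_max_right |a i| |b i|
    linarith

end Groth.Agent.An.H537.BoxVan
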