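import Mathlib.Analysis.SpecialFunctions.Log.Basic
import Mathlib.Topology.Instances.EReal.Lemmas
import Mathlib.Analysis.SpecialFunctions.Exp
import Groth.Agent.An.H887.Rect

/-!
# Cells: spaces homeomorphic to `ℝ^n`

`IsCell X`: `X ≃ₜ (n → ℝ)` for some finite `n`. Stable under homeomorphism, products, finite
products; intervals `{x : ℝ | a < x < b}` with `a b : EReal`, rectangles of `ℂ`, boxes of
`Fin m → ℂ` are cells.
-/

set_option autoImplicit false

open Set Topology

namespace Groth.Agent.An.H537.Cell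

/-- `X` is homeomorphic to some `ℝ^n`. -/
def IsCell (X : Type*) [TopologicalSpace X] : Prop :=
  ∃ (n : Type) (_ : Fintype n), Nonempty (X ≃ₜ (n → ℝ))

variable {X Y : Type*} [TopologicalSpace X] [TopologicalSpace Y]

theorem IsCell.of_homeo (h : IsCell X) (e : Y ≃ₜ X) : IsCell Y := by
  obtain ⟨n, _, ⟨f⟩⟩ := h
  exact ⟨n, inferInstance, ⟨e.trans f⟩⟩

/-- A cell is homeomorphic to some `Fin k → ℝ`. -/
theorem IsCell.exists_fin (h : IsCell X) : ∃ k : ℕ, Nonempty (X ≃ₜ (Fin k → ℝ)) := by
  obtain ⟨n, _, ⟨f⟩⟩ := h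
  exact ⟨Fintype.card n, ⟨f.trans (Homeomorph.piCongrLeft (Y := fun _ => ℝ) (Fintype.equivFin n))⟩⟩

theorem isCell_pi_real (n : Type) [Fintype n] : IsCell (n → ℝ) := ⟨n, inferInstance, ⟨Homeomorph.refl _⟩⟩

theorem isCell_real : IsCell ℝ :=
  (isCell_pi_real Unit).of_homeo (Homeomorph.funUnique Unit ℝ).symm

theorem isCell_of_unique [Unique X] : IsCell X :=
  (isCell_pi_real Empty).of_homeo (Homeomorph.homeomorphOfUnique X (Empty → ℝ))

theorem IsCell.prod (hX : IsCell X) (hY : IsCell Y) : IsCell (X × Y) := by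
  obtain ⟨n, _, ⟨f⟩⟩ := hX
  obtain ⟨m, _, ⟨g⟩⟩ := hY
  exact ⟨n ⊕ m, inferInstance, ⟨(f.prodCongr g).trans Homeomorph.sumArrowHomeomorphProdArrow.symm⟩⟩

/-- Currying of finite products. -/
def curryHomeo {ι : Type} (n : ι → Type) : (∀ i, n i → ℝ) ≃ₜ ((Σ i, n i) → ℝ) where
  toFun f p := f p.1 p.2
  invFun g i j := g ⟨i, j⟩
  left_inv _ := rfl
  right_inv _ := rfl
  continuous_toFun := by fun_prop
  continuous_invFun := by fun_prop

theorem isCell_pi {ι : Type} [Finite ι] {X : ι → Type*} [∀ i, TopologicalSpace (X i)]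
    (h : ∀ i, IsCell (X i)) : IsCell (∀ i, X i) := by
  choose n hn e using h
  have := Fintype.ofFinite ι
  exact ⟨Σ i, n i, inferInstance, ⟨(Homeomorph.piCongrRight fun i => (e i).some).trans
    (curryHomeo n)⟩⟩

theorem isCell_set_prod {s : Set X} {t : Set Y} (hs : IsCell s) (ht : IsCell t) :
    IsCell ↥(s ×ˢ t) :=
  (hs.prod ht).of_homeo (Homeomorph.Set.prod s t)

theorem isCell_set_pi {ι : Type} [Finite ι] {X : ι → Type*} [∀ i, TopologicalSpace (X i)]
    {s : ∀ i, Set (X i)} (h : ∀ i, IsCell (s i)) : IsCell ↥(Set.pi Set.univ s) := by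
  refine (isCell_pi h).of_homeo
    { toFun := fun x i => ⟨x.1 i, x.2 i trivial⟩
      invFun := fun x => ⟨fun i => (x i).1, fun i _ => (x i).2⟩
      left_inv := fun _ => rfl
      right_inv := fun _ => rfl
      continuous_toFun := continuous_pi fun i =>
        Continuous.subtype_mk ((continuous_apply i).comp continuous_subtype_val) _
      continuous_invFun := by fun_prop }

theorem isCell_univ (h : IsCell X) : IsCell (Set.univ : Set X) := h.of_homeo (Homeomorph.Set.univ X)

/-- A homeomorphism of `ℝ` onto a set, given by continuous inverse formulas. -/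
theorem isCell_of_inv {s : Set ℝ} (f : ℝ → ℝ) (g : ℝ → ℝ) (hf : ContinuousOn f s)
    (hg : Continuous g) (hgs : ∀ y, g y ∈ s) (hfg : ∀ y, f (g y) = y) (hgf : ∀ x ∈ s, g (f x) = x) :
    IsCell s := by
  refine isCell_real.of_homeo
    { toFun := fun x => f x.1
      invFun := fun y => ⟨g y, hgs y⟩
      left_inv := fun x => Subtype.ext (hgf x.1 x.2)
      right_inv := hfg
      continuous_toFun := continuousOn_iff_continuous_domRestrict.1 hf
      continuous_invFun := by fun_prop }

theorem isCell_Ioi (a : ℝ) : IsCell (Ioi a) := by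
  refine isCell_of_inv (fun x => Real.log (x - a)) (fun y => a + Real.exp y) ?_ (by fun_prop) ?_ ?_ ?_
  · intro x hx
    have : x - a ≠ 0 := (sub_pos.2 hx).ne'
    have h2 : ContinuousAt (fun x : ℝ => x - a) x := by fun_prop
    exact (h2.log this).continuousWithinAt
  · intro y
    exact lt_add_of_pos_right a (Real.exp_pos y)
  · intro y
    simp
  · intro x hx
    rw [Real.exp_log (sub_pos.2 hx)]
    ring

theorem isCell_Iio (b : ℝ) : IsCell (Iio b) := by
  refine isCell_of_inv (fun x => Real.log (b - x)) (fun y => b - Real.exp y) ?_ (by fun_prop) ?_ ?_ ?_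
  · intro x hx
    have : b - x ≠ 0 := (sub_pos.2 hx).ne'
    have h2 : ContinuousAt (fun x : ℝ => b - x) x := by fun_prop
    exact (h2.log this).continuousWithinAt
  · intro y
    exact sub_lt_self b (Real.exp_pos y)
  · intro y
    simp
  · intro x hx
    rw [Real.exp_log (sub_pos.2 hx)]
    ring

theorem isCell_Ioo {a b : ℝ} (h : a < b) : IsCell (Ioo a b) := by
  refine isCell_of_inv (fun x => Real.log ((x - a) / (b - x)))
    (fun y => (a + b * Real.exp y) / (1 + Real.exp y)) ?_ ?_ ?_ ?_ ?_
  · intro x hx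
    have h1 : 0 < x - a := sub_pos.2 hx.1
    have h2 : 0 < b - x := sub_pos.2 hx.2
    exact (ContinuousAt.log (ContinuousAt.div (by fun_prop) (by fun_prop) h2.ne')
      (div_pos h1 h2).ne').continuousWithinAt
  · refine Continuous.div (by fun_prop) (by fun_prop) (fun y => ?_)
    have := Real.exp_pos y
    positivity
  · intro y
    have h1 := Real.exp_pos y
    have h2 : 0 < 1 + Real.exp y := by positivity
    constructor
    · rw [lt_div_iff₀ h2]
      nlinarith
    · rw [div_lt_iff₀ h2]
      nlinarith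
  · intro y
    have h1 := Real.exp_pos y
    have h2 : 0 < 1 + Real.exp y := by positivity
    have h3 : b - a ≠ 0 := (sub_pos.2 h).ne'
    have e1 : (a + b * Real.exp y) / (1 + Real.exp y) - a = (b - a) * Real.exp y / (1 + Real.exp y) := by
      field_simp
      ring
    have e2 : b - (a + b * Real.exp y) / (1 + Real.exp y) = (b - a) / (1 + Real.exp y) := by
      field_simp
      ring
    rw [e1, e2, div_div_div_cancel_right₀ h2.ne', mul_div_assoc, mul_comm, div_mul_cancel₀ _ h3,
      Real.log_exp]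
  · intro x hx
    have h1 : 0 < x - a := sub_pos.2 hx.1
    have h2 : 0 < b - x := sub_pos.2 hx.2
    rw [Real.exp_log (div_pos h1 h2)]
    have h3 : b - a ≠ 0 := (sub_pos.2 h).ne'
    have h4 : 1 + (x - a) / (b - x) = (b - a) / (b - x) := by
      field_simp
      ring
    rw [h4]
    field_simp
    ring

/-- Intervals with end points in `EReal`. -/
theorem isCell_interval {a b : EReal} (h : {x : ℝ | a < (x : EReal) ∧ (x : EReal) < b}.Nonempty) :
    IsCell {x : ℝ | a < (x : EReal) ∧ (x : EReal) < b} := by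
  obtain ⟨x₀, hx₁, hx₂⟩ := h
  induction a with
  | top => exact absurd hx₁ (not_lt.2 le_top)
  | bot =>
    induction b with
    | bot => exact absurd hx₂ (not_lt.2 bot_le)
    | top =>
      have : {x : ℝ | (⊥ : EReal) < (x : EReal) ∧ (x : EReal) < ⊤} = Set.univ := by
        ext x
        simp [EReal.bot_lt_coe, EReal.coe_lt_top]
      rw [this]
      exact isCell_univ isCell_real
    | coe b =>
      have : {x : ℝ | (⊥ : EReal) < (x : EReal) ∧ (x : EReal) < (b : EReal)} = Iio b := by
        ext x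
        simp [EReal.bot_lt_coe]
      rw [this]
      exact isCell_Iio b
  | coe a =>
    induction b with
    | bot => exact absurd hx₂ (not_lt.2 bot_le)
    | top =>
      have : {x : ℝ | (a : EReal) < (x : EReal) ∧ (x : EReal) < ⊤} = Ioi a := by
        ext x
        simp [EReal.coe_lt_top]
      rw [this]
      exact isCell_Ioi a
    | coe b =>
      have : {x : ℝ | (a : EReal) < (x : EReal) ∧ (x : EReal) < (b : EReal)} = Ioo a b := by
        ext x
        simp
      rw [this]
      refine isCell_Ioo ?_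
      exact EReal.coe_lt_coe_iff.1 (hx₁.trans hx₂)

/-- Nonempty rectangles of `ℂ` are cells. -/
theorem isCell_rect {a b c d : EReal} (h : (H887.Rect.rect a b c d).Nonempty) :
    IsCell (H887.Rect.rect a b c d) := by
  obtain ⟨z, h1, h2, h3, h4⟩ := h
  refine (isCell_set_prod (isCell_interval (a := a) (b := b) ⟨z.re, h1, h2⟩)
    (isCell_interval (a := c) (b := d) ⟨z.im, h3, h4⟩)).of_homeo
    { toFun := fun x => ⟨(x.1.re, x.1.im), ⟨⟨x.2.1, x.2.2.1⟩, ⟨x.2.2.2.1, x.2.2.2.2⟩⟩⟩
      invFun := fun x => ⟨⟨x.1.1, x.1.2⟩, ⟨x.2.1.1, x.2.1.2, x.2.2.1, x.2.2.2⟩⟩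
      left_inv := fun _ => rfl
      right_inv := fun _ => rfl
      continuous_toFun := by
        refine Continuous.subtype_mk ?_ _
        exact (Complex.continuous_re.comp continuous_subtype_val).prodMk
          (Complex.continuous_im.comp continuous_subtype_val)
      continuous_invFun := by
        refine Continuous.subtype_mk ?_ _
        exact Complex.equivRealProdCLM.symm.continuous.comp continuous_subtype_val }

theorem isCell_complex : IsCell ℂ :=
  (isCell_real.prod isCell_real).of_homeo Complex.equivRealProdCLM.toHomeomorph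

/-- Products of rectangles are cells. -/
theorem isCell_pi_rect {ι : Type} [Finite ι] {a b c d : ι → EReal}
    (h : ∀ i, (H887.Rect.rect (a i) (b i) (c i) (d i)).Nonempty) :
    IsCell ↥(Set.pi Set.univ fun i => H887.Rect.rect (a i) (b i) (c i) (d i)) :=
  isCell_set_pi fun i => isCell_rect (h i)

/-- Boxes of `ι → ℂ` (products of open squares) are cells. -/
theorem isCell_cbox {ι : Type} [Finite ι] (c : ι → ℂ) {δ : ℝ} (hδ : 0 < δ) :
    IsCell ↥({y | ∀ i, (c i).re - δ < (y i).re ∧ (y i).re < (c i).re + δ ∧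
      (c i).im - δ < (y i).im ∧ (y i).im < (c i).im + δ} : Set (ι → ℂ)) := by
  have h1 : ({y | ∀ i, (c i).re - δ < (y i).re ∧ (y i).re < (c i).re + δ ∧
      (c i).im - δ < (y i).im ∧ (y i).im < (c i).im + δ} : Set (ι → ℂ)) =
      Set.pi Set.univ fun i => H887.Rect.rect (((c i).re - δ : ℝ) : EReal) (((c i).re + δ : ℝ) : EReal)
        (((c i).im - δ : ℝ) : EReal) (((c i).im + δ : ℝ) : EReal) := by
    ext y
    simp only [Set.mem_pi, H887.Rect.rect, Set.mem_ofPred_eq, EReal.coe_lt_coe_iff]
    exact ⟨fun h i _ => h i, fun h i => h i trivial⟩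
  rw [h1]
  refine isCell_pi_rect fun i => ⟨c i, ?_, ?_, ?_, ?_⟩
  all_goals
    rw [EReal.coe_lt_coe_iff]
    linarith

/-- Products of a box of `ι → ℂ` and of a nonempty rectangle are homeomorphic to `ℝ^k`. -/
theorem exists_homeo_cbox_prod_rect {ι : Type} [Finite ι] (x : ι → ℂ) {δ : ℝ} (hδ : 0 < δ)
    {a b c d : EReal} (h : (H887.Rect.rect a b c d).Nonempty) :
    ∃ k : ℕ, Nonempty (↥(({y | ∀ i, (x i).re - δ < (y i).re ∧ (y i).re < (x i).re + δ ∧
      (x i).im - δ < (y i).im ∧ (y i).im < (x i).im + δ} : Set (ι → ℂ)) ×ˢ H887.Rect.rect a b c d) ≃ₜ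
        (Fin k → ℝ)) :=
  (isCell_set_prod (isCell_cbox x hδ) (isCell_rect h)).exists_fin

end Groth.Agent.An.H537.Cell
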