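import Groth.Agent.An.H537.BoxVan
import Groth.Agent.An.H537.ClOpens
import Groth.Agent.An.H886.LocConst
import Mathlib.Analysis.Convex.Topology

/-!
# The BOX theorem on the classical site

`A : Cl T` with `A.E ≃ₜ (n → ℝ)`, `G : Cl.Ab T` locally constant on `A` (`LCOn G A`; any fibres):
* `HA_eq_zero` : `H^q(A, G) = 0` for `q > 0`;
* `res_bijective` : `G(A) → G(A')` is bijective for every `A' ⟶ A` with `A'.E ≃ₜ (n' → ℝ)`.
-/

set_option autoImplicit false
universe w v u t

open CategoryTheory Category Limits Opposite TopologicalSpace Topology An Function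

noncomputable section

namespace Groth.Agent.An.H537.ClBox

open Groth.Agent.Proet Cosheaf SiteCosheaf ClOpens Box BoxVan Groth.Agent.An.H886

section Comap

variable {Y Y' : Type*} [TopologicalSpace Y] [TopologicalSpace Y']

/-- Preimages of opens, as a functor. -/
def comapF (e : C(Y, Y')) : Opens Y' ⥤ Opens Y where
  obj V := V.comap e
  map h := homOfLE (fun _ hx => h.le hx)

theorem openLike_comap {C : Type u} [Category.{v} C] {J : GrothendieckTopology C}
    {Φ : Opens Y ⥤ C} (hΦ : OpenLike Φ J) (e : Y ≃ₜ Y') :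
    OpenLike (comapF (e : C(Y, Y')) ⋙ Φ) J where
  mono {V U} h := hΦ.mono ((comapF (e : C(Y, Y'))).map (homOfLE h)).le
  cover {I} U V hi hV := hΦ.cover (fun i => (comapF (e : C(Y, Y'))).obj (U i)) _
    (fun i => ((comapF (e : C(Y, Y'))).map (homOfLE (hi i))).le) (by
      intro y hy
      obtain ⟨i, hi⟩ := Opens.mem_iSup.1 (hV hy)
      exact Opens.mem_iSup.2 ⟨i, hi⟩)
  inter {U₁ U₂ V} h₁ h₂ W g₁ g₂ hg :=
    hΦ.inter (U₁ := (comapF (e : C(Y, Y'))).obj U₁) (U₂ := (comapF (e : C(Y, Y'))).obj U₂)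
      (V := (comapF (e : C(Y, Y'))).obj V) ((comapF (e : C(Y, Y'))).map (homOfLE h₁)).le
      ((comapF (e : C(Y, Y'))).map (homOfLE h₂)).le g₁ g₂ hg
  refine {U} S hS y hy := by
    obtain ⟨V, hV, hyV, hSV⟩ := hΦ.refine (U := (comapF (e : C(Y, Y'))).obj U) S hS (e.symm y) (by
      change e (e.symm y) ∈ U
      rwa [e.apply_symm_apply])
    let V' : Opens Y' := V.comap (e.symm : C(Y', Y))
    have h1 : V' ≤ U := by
      intro z hz
      have h2 : e (e.symm z) ∈ U := hV hz
      rwa [e.apply_symm_apply] at h2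
    have h3 : (comapF (e : C(Y, Y'))).obj V' ≤ V := by
      intro z hz
      have h4 : e.symm (e z) ∈ V := hz
      rwa [e.symm_apply_apply] at h4
    refine ⟨V', h1, hyV, ?_⟩
    have h5 := S.downward_closed hSV (Φ.map (homOfLE h3))
    rw [← Functor.map_comp] at h5
    exact h5

end Comap

variable {T : Type} [TopologicalSpace T]

/-- Sections of a constant sheaf on a connected object. -/
theorem constVia_bijective {G : Cl.Ab T} {A : Cl T} [ConnectedSpace A.E] {M : Type*}
    [AddCommGroup M] {φ : M →+ Cl.sect G A} (h : LocConst.ConstVia G A φ) : Bijective φ := by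
  obtain ⟨a₀⟩ : Nonempty A.E := inferInstance
  constructor
  · rw [injective_iff_map_eq_zero]
    intro m hm
    exact h.inj (𝟙 A) a₀ (by rw [hm, map_zero])
  · intro s
    let E : M → Set A.E := fun m => {b | EtSpace.GEq G b b s (φ m)}
    have hE : ∀ m, IsOpen (E m) := fun m => EtSpace.isOpen_GEq s (φ m)
    have hcov : ∀ b : A.E, ∃ m, b ∈ E m := by
      intro b
      obtain ⟨C, k, c, m, hc, hs⟩ := h.surj (𝟙 A) b s
      rw [Category.comp_id] at hs
      exact ⟨m, C, k, k, c, hc, hc, hs⟩
    have huniq : ∀ b m m', b ∈ E m → b ∈ E m' → m = m' := by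
      intro b m m' h1 h2
      obtain ⟨C, f, c, hc, hs⟩ := (EtSpace.GEq.trans (EtSpace.GEq.symm h1) h2).exists_res
      have := h.inj f c (m := m - m') (by rw [map_sub, map_sub, hs, sub_self])
      exact sub_eq_zero.1 this
    obtain ⟨m, hm⟩ := hcov a₀
    have hclopen : IsClopen (E m) := by
      refine ⟨?_, hE m⟩
      rw [← isOpen_compl_iff]
      have : (E m)ᶜ = ⋃ (m' : M) (_ : m' ≠ m), E m' := by
        ext b
        simp only [Set.mem_compl_iff, Set.mem_iUnion]
        constructor
        · intro hb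
          obtain ⟨m', hm'⟩ := hcov b
          exact ⟨m', fun e => hb (e ▸ hm'), hm'⟩
        · rintro ⟨m', hne, hm'⟩ hb
          exact hne (huniq b m' m hm' hb)
      rw [this]
      exact isOpen_iUnion fun m' => isOpen_iUnion fun _ => hE m'
    have huniv := hclopen.eq_univ ⟨a₀, hm⟩
    exact ⟨m, (EtSpace.eq_of_GEq (fun b => (huniv ▸ Set.mem_univ b : b ∈ E m))).symm⟩

/-- The sieve of maps `B ⟶ A` such that `G` is constant on `B`. -/
def constSieve (G : Cl.Ab T) (A : Cl T) : Sieve A where
  arrows B _ := ∃ (M : Type 1) (_ : AddCommGroup M) (φ : M →+ Cl.sect G B), LocConst.ConstVia G B φ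
  downward_closed := by
    rintro B C f ⟨M, _, φ, h⟩ g
    exact ⟨M, inferInstance, _, h.res g⟩

/-- `G` is locally constant on `A` (arbitrary fibres). -/
def LCOn (G : Cl.Ab T) (A : Cl T) : Prop := constSieve G A ∈ Cl.topology T A

theorem constVia_ulift {G : Cl.Ab T} {A : Cl T} {M : Type} [AddCommGroup M]
    {φ : M →+ Cl.sect G A} (h : LocConst.ConstVia G A φ) :
    LocConst.ConstVia G A (φ.comp (AddEquiv.ulift (α := M)).toAddMonoidHom :
      ULift.{1} M →+ Cl.sect G A) where
  inj {B} g b m hm := ULift.ext _ _ (h.inj g b hm)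
  surj {B} g b s := by
    obtain ⟨C, k, c, m, h1, h2⟩ := h.surj g b s
    exact ⟨C, k, c, ULift.up m, h1, h2⟩

theorem lcOn_of_isLC {G : Cl.Ab T} (h : LocConst.IsLC G) (A : Cl T) : LCOn G A := by
  apply EtSpace.mem_topology
  intro a
  obtain ⟨B, b, M, _, φ, hb, hφ⟩ := h (A.p a)
  obtain ⟨C, g, g', c, h1, h2, -⟩ := EtSpace.exists_common A B a b hb.symm
  exact ⟨C, g, c, ⟨ULift.{1} M, inferInstance, _, constVia_ulift (hφ.res g')⟩, h1⟩

theorem lcOn_of_isFiniteLocallyConstant {G : Cl.Ab T} (h : Cl.IsFiniteLocallyConstant G)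
    (A : Cl T) : LCOn G A :=
  lcOn_of_isLC (LocConst.isFLC_of_isFiniteLocallyConstant h).isLC A

theorem LCOn.pullback {G : Cl.Ab T} {A B : Cl T} (h : LCOn G A) (g : B ⟶ A) : LCOn G B :=
  (Cl.topology T).superset_covering (fun _ _ hf => hf) ((Cl.topology T).pullback_stable g h)

theorem exists_open_constVia {G : Cl.Ab T} {A : Cl T} (h : LCOn G A) (a : A.E) :
    ∃ V : Opens A.E, a ∈ V ∧ ∃ (M : Type 1) (_ : AddCommGroup M)
      (φ : M →+ Cl.sect G ((opensF A).obj V)), LocConst.ConstVia G ((opensF A).obj V) φ := by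
  obtain ⟨V, hVt, hV, hS⟩ := (openLike A).refine (U := ⊤) _
    ((Cl.topology T).pullback_stable (topIso A).hom h) a trivial
  exact ⟨V, hV, hS⟩

theorem bij_iff (A : Cl T) (G : Cl.Ab T) {V U : Opens A.E} (h : V ≤ U) :
    Bij (ZA A) G h ↔ Bijective (EtSpace.res G ((opensF A).map (homOfLE h))) := by
  let e₁ := ZU.ev (Cl.topology T) ((opensF A).obj U) G
  let e₂ := ZU.ev (Cl.topology T) ((opensF A).obj V) G
  have h1 : ∀ f : (ZA A).obj U ⟶ G, e₂ (ι (ZA A) h ≫ f) =
      EtSpace.res G ((opensF A).map (homOfLE h)) (e₁ f) := fun f => ZU.ev_map_comp _ f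
  have h2 : (fun f : (ZA A).obj U ⟶ G => e₂ (ι (ZA A) h ≫ f)) =
      (fun s => EtSpace.res G ((opensF A).map (homOfLE h)) s) ∘ e₁ := funext h1
  constructor
  · intro H
    have h3 : Bijective (e₂ ∘ fun f : (ZA A).obj U ⟶ G => ι (ZA A) h ≫ f) := e₂.bijective.comp H
    have h4 : Bijective ((fun s => EtSpace.res G ((opensF A).map (homOfLE h)) s) ∘ e₁) := by
      rw [← h2]
      exact h3
    exact (Bijective.of_comp_iff _ e₁.bijective).1 h4
  · intro H
    have h3 : Bijective ((fun s => EtSpace.res G ((opensF A).map (homOfLE h)) s) ∘ e₁) :=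
      H.comp e₁.bijective
    rw [← h2] at h3
    exact (Bijective.of_comp_iff' e₂.bijective _).1 h3

theorem res_bijective_of_constVia {G : Cl.Ab T} {A B : Cl T} [ConnectedSpace A.E]
    [ConnectedSpace B.E] {M : Type*} [AddCommGroup M] {φ : M →+ Cl.sect G A}
    (h : LocConst.ConstVia G A φ) (g : B ⟶ A) : Bijective (EtSpace.res G g) := by
  have h1 := constVia_bijective h
  have h2 := constVia_bijective (h.res g)
  have h3 : (((EtSpace.res G g).comp φ : M →+ _) : M → Cl.sect G B) = EtSpace.res G g ∘ φ := rfl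
  rw [h3] at h2
  exact (Bijective.of_comp_iff _ h1).1 h2

section Main

variable {n : Type} [Fintype n]

theorem convex_obox (a b : n → ℝ) : Convex ℝ (obox a b : Set (n → ℝ)) := by
  have : (obox a b : Set (n → ℝ)) = Set.pi Set.univ (fun i => Set.Ioo (a i) (b i)) := by
    ext x
    change (x ∈ obox a b) ↔ _
    rw [mem_obox]
    simp [Set.mem_pi]
  rw [this]
  exact convex_pi (fun i _ => convex_Ioo _ _)

theorem isConnected_obox {a b : n → ℝ} (h : ∀ i, a i < b i) :
    _root_.IsConnected (obox a b : Set (n → ℝ)) :=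
  ⟨⟨fun i => (a i + b i) / 2, fun i => ⟨by linarith [h i], by linarith [h i]⟩⟩,
    (convex_obox a b).isPreconnected⟩

variable (A : Cl T) (e : A.E ≃ₜ (n → ℝ))

/-- The cosheaf on `ℝ^n` attached to a chart. -/
abbrev ZB : Opens (n → ℝ) ⥤ Cl.Ab T :=
  (comapF (e : C(A.E, n → ℝ)) ⋙ opensF A) ⋙ ZU.zF.{1} (Cl.topology T)

omit [Fintype n] in
theorem isCosheaf_ZB : IsCosheaf (ZB A e) := (openLike_comap (openLike A) e).isCosheaf

theorem connectedSpace_box {a b : n → ℝ} (h : ∀ i, a i < b i) :
    ConnectedSpace ((opensF A).obj ((comapF (e : C(A.E, n → ℝ))).obj (obox a b))).E := by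
  have h1 : _root_.IsConnected (e ⁻¹' (obox a b : Set (n → ℝ))) := by
    rw [← e.image_symm]
    exact (isConnected_obox h).image _ e.symm.continuous.continuousOn
  exact isConnected_iff_connectedSpace.1 h1

theorem lcBox {G : Cl.Ab T} (hG : LCOn G A) : LCBox (ZB A e) G := by
  intro x
  obtain ⟨V, hV, M, _, φ, hφ⟩ := exists_open_constVia hG (e.symm x)
  have hopen : IsOpen (e.symm ⁻¹' (V : Set A.E)) := V.isOpen.preimage e.symm.continuous
  obtain ⟨ε, hε, hball⟩ := Metric.isOpen_iff.1 hopen x hV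
  refine ⟨fun i => x i - ε, fun i => x i + ε, fun i => by linarith, fun i => by linarith, ?_⟩
  intro a₁ b₁ a₂ b₂ h₁ h₂ h₃ h₄ hab
  have hle : (comapF (e : C(A.E, n → ℝ))).obj (obox a₁ b₁) ≤ V := by
    intro y hy
    have hy' : e y ∈ obox a₁ b₁ := hy
    have h5 : e y ∈ Metric.ball x ε := by
      rw [Metric.mem_ball, dist_pi_lt_iff hε]
      intro i
      rw [Real.dist_eq, abs_lt]
      have h6 := hy' i
      have h7 := h₁ i
      have h8 := h₄ i
      dsimp only at h7 h8
      constructor <;> linarith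
    have h6 := hball h5
    rw [Set.mem_preimage, e.symm_apply_apply] at h6
    exact h6
  have hab₁ : ∀ i, a₁ i < b₁ i := fun i => (h₂ i).trans_lt ((hab i).trans_le (h₃ i))
  have c₁ := connectedSpace_box A e hab₁
  have c₂ := connectedSpace_box A e hab
  have key := res_bijective_of_constVia (hφ.res ((opensF A).map (homOfLE hle)))
    ((opensF A).map ((comapF (e : C(A.E, n → ℝ))).map (homOfLE (obox_mono h₂ h₃))))
  exact (bij_iff A G ((comapF (e : C(A.E, n → ℝ))).map (homOfLE (obox_mono h₂ h₃))).le).2 key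

include e in
/-- **BOX theorem**: higher cohomology of a locally constant sheaf on an object homeomorphic to `ℝ^n`
vanishes. -/
theorem HA_eq_zero {G : Cl.Ab T} (hG : LCOn G A) (q : ℕ) (x : H888.ClsH.HA A G (q + 1)) :
    x = 0 := by
  classical
  apply (topEquiv A G (q + 1)).injective
  rw [map_zero]
  exact eq_zero_top (isCosheaf_ZB A e) (lcBox A e hG) q (topEquiv A G (q + 1) x)

/-- Sections over an object homeomorphic to `ℝ^n` and over a box in it. -/
theorem res_incl_bijective {G : Cl.Ab T} (hG : LCOn G A) {a b : n → ℝ} (hab : ∀ i, a i < b i) :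
    Bijective (EtSpace.res G (incl A ((comapF (e : C(A.E, n → ℝ))).obj (obox a b)))) := by
  classical
  have h1 : Bij (ZB A e) G (le_top : obox a b ≤ ⊤) := bij_top (isCosheaf_ZB A e) (lcBox A e hG) hab
  have h2 := (bij_iff A G ((comapF (e : C(A.E, n → ℝ))).map
    (homOfLE (le_top : obox a b ≤ ⊤))).le).1 h1
  have h3 : Bijective (EtSpace.res G (topIso A).hom) := by
    refine Function.bijective_iff_has_inverse.2 ⟨EtSpace.res G (topIso A).inv, fun s => ?_,
      fun s => ?_⟩
    · rw [← EtSpace.res_comp, (topIso A).inv_hom_id, EtSpace.res_id]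
    · rw [← EtSpace.res_comp, (topIso A).hom_inv_id, EtSpace.res_id]
  have h4 := h2.comp h3
  refine Eq.mp ?_ h4
  congr 1
  funext s
  exact (EtSpace.res_comp G (topIso A).hom ((opensF A).map (homOfLE
    (le_top : (comapF (e : C(A.E, n → ℝ))).obj (obox a b) ≤ ⊤))) s).symm

end Main

/-- Sections of a locally constant sheaf over objects homeomorphic to `ℝ^n`. -/
theorem res_bijective {n n' : Type} [Fintype n] [Fintype n'] {A A' : Cl T} (e : A.E ≃ₜ (n → ℝ))
    (e' : A'.E ≃ₜ (n' → ℝ)) (g : A' ⟶ A) {G : Cl.Ab T} (hG : LCOn G A) :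
    Bijective (EtSpace.res G g) := by
  let a' : A'.E := e'.symm 0
  obtain ⟨V, hV, M, _, φ, hφ⟩ := exists_open_constVia hG (g.toFun a')
  -- a box around `g a'` inside `V`
  obtain ⟨ε, hε, hball⟩ := Metric.isOpen_iff.1
    (V.isOpen.preimage e.symm.continuous : IsOpen (e.symm ⁻¹' (V : Set A.E))) (e (g.toFun a')) (by
      rw [Set.mem_preimage, e.symm_apply_apply]; exact hV)
  let a : n → ℝ := fun i => e (g.toFun a') i - ε
  let b : n → ℝ := fun i => e (g.toFun a') i + ε
  have hab : ∀ i, a i < b i := fun i => by simp only [a, b]; linarith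
  let W : Opens A.E := (comapF (e : C(A.E, n → ℝ))).obj (obox a b)
  have hWV : W ≤ V := by
    intro y hy
    have hy' : e y ∈ obox a b := hy
    have h5 : e y ∈ Metric.ball (e (g.toFun a')) ε := by
      rw [Metric.mem_ball, dist_pi_lt_iff hε]
      intro i
      rw [Real.dist_eq, abs_lt]
      have h6 := hy' i
      simp only [a, b] at h6
      constructor <;> linarith
    have h6 := hball h5
    rw [Set.mem_preimage, e.symm_apply_apply] at h6
    exact h6
  have haW : g.toFun a' ∈ W := fun i => ⟨by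
    change e (g.toFun a') i - ε < e (g.toFun a') i
    linarith, by
    change e (g.toFun a') i < e (g.toFun a') i + ε
    linarith⟩
  -- a box around `a'` mapping into `W`
  obtain ⟨δ, hδ, hball'⟩ := Metric.isOpen_iff.1
    ((W.isOpen.preimage g.continuous).preimage e'.symm.continuous :
      IsOpen (e'.symm ⁻¹' (g.toFun ⁻¹' (W : Set A.E)))) 0 haW
  let c : n' → ℝ := fun _ => -δ
  let d : n' → ℝ := fun _ => δ
  have hcd : ∀ i, c i < d i := fun i => by simp only [c, d]; linarith
  let W' : Opens A'.E := (comapF (e' : C(A'.E, n' → ℝ))).obj (obox c d)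
  have hW' : ∀ y ∈ W', g.toFun y ∈ W := by
    intro y hy
    have hy' : e' y ∈ obox c d := hy
    have h5 : e' y ∈ Metric.ball 0 δ := by
      rw [Metric.mem_ball, dist_pi_lt_iff hδ]
      intro i
      rw [Real.dist_eq, Pi.zero_apply, sub_zero, abs_lt]
      exact hy' i
    have h6 := hball' h5
    rw [Set.mem_preimage, e'.symm_apply_apply] at h6
    exact h6
  let k : (opensF A').obj W' ⟶ (opensF A).obj W :=
    ⟨fun y => ⟨g.toFun y.1, hW' y.1 y.2⟩,
      Continuous.subtype_mk (g.continuous.comp continuous_subtype_val) _, fun y => g.over y.1⟩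
  have hk : k ≫ incl A W = incl A' W' ≫ g := rfl
  have c₁ : ConnectedSpace ((opensF A).obj W).E := connectedSpace_box A e hab
  have c₂ : ConnectedSpace ((opensF A').obj W').E := connectedSpace_box A' e' hcd
  have h1 : Bijective (EtSpace.res G k) :=
    res_bijective_of_constVia (hφ.res ((opensF A).map (homOfLE hWV))) k
  have h2 : Bijective (EtSpace.res G (incl A W)) := res_incl_bijective A e hG hab
  have h3 : Bijective (EtSpace.res G (incl A' W')) := res_incl_bijective A' e' (hG.pullback g) hcd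
  have h4 : EtSpace.res G k ∘ EtSpace.res G (incl A W) =
      EtSpace.res G (incl A' W') ∘ EtSpace.res G g := by
    funext s
    rw [comp_apply, comp_apply, ← EtSpace.res_comp, ← EtSpace.res_comp, hk]
  have h5 := h1.comp h2
  rw [h4] at h5
  exact (Bijective.of_comp_iff' h3 _).1 h5

end Groth.Agent.An.H537.ClBox
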