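import Groth.Agent.An.H537.ClBox
import Groth.Agent.An.H537.Cell

/-!
# The BOX theorem for cells

Versions of `ClBox` for objects `A : Cl T` with `IsCell A.E`, and for opens `W` of `A.E` that are
cells, in the cosheaf language `H (ZA A) G q W`.
-/

set_option autoImplicit false

open CategoryTheory Category Limits Opposite TopologicalSpace Topology An Function

noncomputable section

namespace Groth.Agent.An.H537.ClCell

open Groth.Agent.Proet Cosheaf ClOpens ClBox Cell Groth.Agent.An.H886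

variable {T : Type} [TopologicalSpace T]

theorem HA_eq_zero {A : Cl T} (hA : IsCell A.E) {G : Cl.Ab T} (hG : LCOn G A) {q : ℕ} (hq : 0 < q)
    (x : H888.ClsH.HA A G q) : x = 0 := by
  obtain ⟨n, _, ⟨e⟩⟩ := hA
  obtain ⟨q, rfl⟩ : ∃ k, q = k + 1 := ⟨q - 1, by omega⟩
  exact ClBox.HA_eq_zero A e hG q x

theorem subsingleton_HA {A : Cl T} (hA : IsCell A.E) {G : Cl.Ab T} (hG : LCOn G A) {q : ℕ}
    (hq : 0 < q) : Subsingleton (H888.ClsH.HA A G q) :=
  ⟨fun x y => by rw [HA_eq_zero hA hG hq x, HA_eq_zero hA hG hq y]⟩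

/-- Vanishing over an object homeomorphic to `Fin k → ℝ`, for `H886.LocConst.IsFLC` sheaves. -/
theorem subsingleton_of_isFLC {A : Cl T} {k : ℕ} (e : A.E ≃ₜ (Fin k → ℝ)) {G : Cl.Ab T}
    (hG : LocConst.IsFLC G) (q : ℕ) : Subsingleton (H888.ClsH.HA A G (q + 1)) :=
  subsingleton_HA ⟨Fin k, inferInstance, ⟨e⟩⟩ (lcOn_of_isLC hG.isLC A) (Nat.succ_pos q)

/-- Sections of a locally constant sheaf over cells. -/
theorem res_bijective {A A' : Cl T} (hA : IsCell A.E) (hA' : IsCell A'.E) (g : A' ⟶ A)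
    {G : Cl.Ab T} (hG : LCOn G A) : Bijective (EtSpace.res G g) := by
  obtain ⟨n, _, ⟨e⟩⟩ := hA
  obtain ⟨n', _, ⟨e'⟩⟩ := hA'
  exact ClBox.res_bijective e e' g hG

theorem LCOn.open {G : Cl.Ab T} {A : Cl T} (hG : LCOn G A) (W : Opens A.E) :
    LCOn G ((opensF A).obj W) := hG.pullback (incl A W)

/-- Classes of positive degree over an open cell of `A`. -/
theorem subsingleton_open {A : Cl T} {G : Cl.Ab T} (hG : LCOn G A) {W : Opens A.E}
    (hW : IsCell W) (q : ℕ) : Subsingleton (Gen.H.{1} (ZA A) G (q + 1) W) :=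
  subsingleton_HA (A := (opensF A).obj W) hW (LCOn.open hG W) (Nat.succ_pos q)

/-- Restriction of sections between open cells of `A`, in degree zero cohomology. -/
theorem bijective_open {A : Cl T} {G : Cl.Ab T} (hG : LCOn G A) {W W' : Opens A.E}
    (hW : IsCell W) (hW' : IsCell W') (h : W' ≤ W) : Bijective (r.{1} (ZA A) G 0 h) := by
  have h1 := (bij_iff A G h).2 (res_bijective (A := (opensF A).obj W) (A' := (opensF A).obj W')
    hW hW' ((opensF A).map (homOfLE h)) (LCOn.open hG W))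
  constructor
  · intro x y hxy
    obtain ⟨f, rfl⟩ := Gen.exists_mk₀ (ZA A) x
    obtain ⟨g, rfl⟩ := Gen.exists_mk₀ (ZA A) y
    rw [Gen.res_mk₀, Gen.res_mk₀] at hxy
    have h2 := Gen.mk₀_inj (ZA A) hxy
    rw [h1.1 h2]
  · intro x
    obtain ⟨f, rfl⟩ := Gen.exists_mk₀ (ZA A) x
    obtain ⟨g, hg⟩ := h1.2 f
    refine ⟨Abelian.Ext.mk₀ g, ?_⟩
    rw [Gen.res_mk₀]
    exact congrArg Abelian.Ext.mk₀ hg

end Groth.Agent.An.H537.ClCell
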