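import Groth.Agent.An.H537.Gen
import Groth.Agent.CohtopA.MVElem
import Mathlib.Topology.Sets.Opens

/-!
# Cohomology of opens of a space with respect to a "cosheaf" `Z : Opens Y ⥤ A`

`IsCosheaf Z` : `U ↦ Hom(Z U, F)` is a sheaf on `Y` for every `F : A`, the maps `Z V ⟶ Z U` are mono
and sections lift locally along epimorphisms.  Example: `Z U = ℤ_{Φ U}` for a nice functor
`Φ : Opens Y ⥤ C` to a site.  With `H^n(U, F) = Ext^n(Z U, F)`:
* `shortExact`, `mvδ`, `exists_mvδ`, `mv_glue`, `mvδ_res_sub`, `exists_res_sub`, `res_mvδ`,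
  `mv_eq_zero` : Mayer-Vietoris;
* `exists_nhds` : classes of positive degree die locally;
* `eq_zero_of_exhaust` : exhaustion (Milnor) lemma.
-/

set_option autoImplicit false
universe w v u t

open CategoryTheory Category Limits Abelian TopologicalSpace

noncomputable section

namespace Groth.Agent.An.H537.Cosheaf

open Gen

variable {Y : Type t} [TopologicalSpace Y] {A : Type u} [Category.{v} A] [Abelian A]

/-- The map `Z V ⟶ Z U` for `V ≤ U`. -/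
abbrev ι (Z : Opens Y ⥤ A) {V U : Opens Y} (h : V ≤ U) : Z.obj V ⟶ Z.obj U := Z.map (homOfLE h)

/-- `U ↦ Hom(Z U, F)` is a sheaf for all `F`, `Z V ⟶ Z U` is mono, and epimorphisms are locally
surjective on sections. -/
structure IsCosheaf (Z : Opens Y ⥤ A) : Prop where
  mono : ∀ {V U : Opens Y} (h : V ≤ U), Mono (ι Z h)
  hom_ext : ∀ {I : Type} (U : I → Opens Y) (V : Opens Y) (hi : ∀ i, U i ≤ V) (_ : V ≤ iSup U)
    {F : A} (f g : Z.obj V ⟶ F), (∀ i, ι Z (hi i) ≫ f = ι Z (hi i) ≫ g) → f = g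
  glue : ∀ {I : Type} (U : I → Opens Y) (V : Opens Y) (hi : ∀ i, U i ≤ V) (_ : V ≤ iSup U)
    {F : A} (s : ∀ i, Z.obj (U i) ⟶ F),
    (∀ i j, ι Z (inf_le_left : U i ⊓ U j ≤ U i) ≫ s i = ι Z (inf_le_right : U i ⊓ U j ≤ U j) ≫ s j) →
      ∃ f : Z.obj V ⟶ F, ∀ i, ι Z (hi i) ≫ f = s i
  lift : ∀ {I Q : A} (p : I ⟶ Q) [Epi p] {U : Opens Y} (s : Z.obj U ⟶ Q) (y : Y), y ∈ U →
    ∃ (V : Opens Y) (h : V ≤ U), y ∈ V ∧ ∃ t : Z.obj V ⟶ I, t ≫ p = ι Z h ≫ s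

variable {Z : Opens Y ⥤ A}

omit [Abelian A] in
theorem ι_comp {U V W : Opens Y} (h : V ≤ U) (h' : W ≤ V) :
    ι Z h' ≫ ι Z h = ι Z (h'.trans h) := (Z.map_comp _ _).symm

omit [Abelian A] in
@[simp]
theorem ι_refl {U : Opens Y} : ι Z (le_refl U) = 𝟙 _ := Z.map_id U

omit [Abelian A] in
@[reassoc]
theorem ι_ι {U V V' W : Opens Y} (h : V ≤ U) (h' : W ≤ V) (k : V' ≤ U) (k' : W ≤ V') :
    ι Z h' ≫ ι Z h = ι Z k' ≫ ι Z k := by rw [ι_comp, ι_comp]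

variable (hZ : IsCosheaf Z)
include hZ

omit [Abelian A] in
theorem IsCosheaf.hom_ext₂ {W₁ W₂ : Opens Y} {F : A} {f g : Z.obj (W₁ ⊔ W₂) ⟶ F}
    (h₁ : ι Z le_sup_left ≫ f = ι Z le_sup_left ≫ g)
    (h₂ : ι Z le_sup_right ≫ f = ι Z le_sup_right ≫ g) : f = g := by
  refine hZ.hom_ext (I := Bool) (fun i => cond i W₁ W₂) _ ?_ ?_ f g ?_
  · rintro (_ | _)
    exacts [le_sup_right, le_sup_left]
  · rw [iSup_bool_eq]
    exact le_rfl
  · rintro (_ | _)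
    exacts [h₂, h₁]

omit [Abelian A] in
theorem IsCosheaf.glue₂ {W₁ W₂ : Opens Y} {F : A} (s₁ : Z.obj W₁ ⟶ F) (s₂ : Z.obj W₂ ⟶ F)
    (h : ι Z (inf_le_left : W₁ ⊓ W₂ ≤ W₁) ≫ s₁ = ι Z inf_le_right ≫ s₂) :
    ∃ f : Z.obj (W₁ ⊔ W₂) ⟶ F, ι Z le_sup_left ≫ f = s₁ ∧ ι Z le_sup_right ≫ f = s₂ := by
  obtain ⟨f, hf⟩ := hZ.glue (I := Bool) (fun i => cond i W₁ W₂) (W₁ ⊔ W₂) (by
    rintro (_ | _)
    exacts [le_sup_right, le_sup_left]) (by
    rw [iSup_bool_eq]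
    exact le_rfl) (F := F) (fun i => match i with
      | true => s₁
      | false => s₂) (by
    have h0 : ∀ (W : Opens Y) (s : Z.obj W ⟶ F), ι Z (inf_le_left : W ⊓ W ≤ W) ≫ s =
      ι Z inf_le_right ≫ s := fun W s => rfl
    rintro (_ | _) (_ | _)
    · rfl
    · have h1 : ι Z (inf_le_right : W₂ ⊓ W₁ ≤ W₁) ≫ s₁ = ι Z (inf_le_left : W₂ ⊓ W₁ ≤ W₂) ≫ s₂ := by
        have e : W₂ ⊓ W₁ ≤ W₁ ⊓ W₂ := (inf_comm _ _).le
        rw [← ι_comp (inf_le_left : W₁ ⊓ W₂ ≤ W₁) e, assoc, h, ← assoc, ι_comp]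
      exact h1.symm
    · exact h
    · rfl)
  exact ⟨f, hf true, hf false⟩

variable (W₁ W₂ : Opens Y)

omit hZ in
theorem mv_w : biprod.lift (ι Z (inf_le_left : W₁ ⊓ W₂ ≤ W₁)) (-ι Z (inf_le_right : W₁ ⊓ W₂ ≤ W₂)) ≫
    biprod.desc (ι Z (le_sup_left : W₁ ≤ W₁ ⊔ W₂)) (ι Z (le_sup_right : W₂ ≤ W₁ ⊔ W₂)) = 0 := by
  rw [biprod.lift_desc, Preadditive.neg_comp, ι_ι (le_sup_left) inf_le_left le_sup_right
    inf_le_right, add_neg_cancel]

theorem epi_desc : Epi (biprod.desc (ι Z (le_sup_left : W₁ ≤ W₁ ⊔ W₂))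
    (ι Z (le_sup_right : W₂ ≤ W₁ ⊔ W₂))) := by
  rw [Preadditive.epi_iff_cancel_zero]
  intro F f hf
  apply hZ.hom_ext₂
  · rw [comp_zero]
    have := congrArg (fun z => (biprod.inl : Z.obj W₁ ⟶ Z.obj W₁ ⊞ Z.obj W₂) ≫ z) hf
    rw [biprod.inl_desc_assoc, comp_zero] at this
    exact this
  · rw [comp_zero]
    have := congrArg (fun z => (biprod.inr : Z.obj W₂ ⟶ Z.obj W₁ ⊞ Z.obj W₂) ≫ z) hf
    rw [biprod.inr_desc_assoc, comp_zero] at this
    exact this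

variable (Z) in
/-- The Mayer-Vietoris short complex. -/
abbrev mvS : ShortComplex A := ShortComplex.mk _ _ (mv_w (Z := Z) W₁ W₂)

/-- The Mayer-Vietoris short exact sequence. -/
theorem shortExact : (mvS Z W₁ W₂).ShortExact := by
  have h1 := epi_desc hZ W₁ W₂
  have h2 := hZ.mono (inf_le_left : W₁ ⊓ W₂ ≤ W₁)
  have e := biprod.lift_fst (ι Z (inf_le_left : W₁ ⊓ W₂ ≤ W₁))
    (-ι Z (inf_le_right : W₁ ⊓ W₂ ≤ W₂))
  have h3 : Mono (mvS Z W₁ W₂).f := mono_of_mono_fac e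
  refine { mono_f := h3, epi_g := h1, exact := ?_ }
  · have key : ∀ {F : A} (f : (mvS Z W₁ W₂).X₂ ⟶ F), (mvS Z W₁ W₂).f ≫ f = 0 →
        ∃ g : (mvS Z W₁ W₂).X₃ ⟶ F, (mvS Z W₁ W₂).g ≫ g = f := by
      intro F f hf'
      obtain ⟨g, h1, h2⟩ := hZ.glue₂ (biprod.inl ≫ f) (biprod.inr ≫ f) (by
        rw [← sub_eq_zero]
        dsimp only at hf'
        rw [biprod.lift_eq, Preadditive.add_comp, Preadditive.neg_comp, Preadditive.neg_comp,
          ← sub_eq_add_neg, assoc, assoc] at hf'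
        exact hf')
      refine ⟨g, ?_⟩
      apply biprod.hom_ext'
      · exact (biprod.inl_desc_assoc _ _ _).trans h1
      · exact (biprod.inr_desc_assoc _ _ _).trans h2
    exact ShortComplex.exact_of_g_is_cokernel _
      (CokernelCofork.IsColimit.ofπ (mvS Z W₁ W₂).g (mvS Z W₁ W₂).zero
        (fun {F} f hf => (key f hf).choose) (fun {F} f hf => (key f hf).choose_spec)
        (fun {F} f hf m hm => by
          rw [← cancel_epi (mvS Z W₁ W₂).g]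
          exact hm.trans (key f hf).choose_spec.symm))

section Coh

variable [HasExt.{w} A] (F : A)

omit hZ in
variable (Z) in
/-- Restriction `H^n(U, F) → H^n(V, F)` for `V ≤ U`. -/
abbrev r (n : ℕ) {U V : Opens Y} (h : V ≤ U) : H Z F n U →+ H Z F n V := res Z F n (homOfLE h)

omit hZ in
theorem r_r (n : ℕ) {U V W : Opens Y} (h : V ≤ U) (h' : W ≤ V) (x : H Z F n U) :
    r Z F n h' (r Z F n h x) = r Z F n (h'.trans h) x := res_res _ _ _ _ _ _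

omit hZ in
theorem r_refl (n : ℕ) {U : Opens Y} (x : H Z F n U) : r Z F n (le_refl U) x = x := res_id _ _ _ _

/-- The Mayer-Vietoris connecting homomorphism. -/
def mvδ (n : ℕ) : H Z F n (W₁ ⊓ W₂) →+ H Z F (n + 1) (W₁ ⊔ W₂) where
  toFun η := (shortExact hZ W₁ W₂).extClass.comp η (add_comm 1 n)
  map_zero' := Ext.comp_zero _ _ _ _ _
  map_add' _ _ := Ext.comp_add _ _ _ _

variable {W₁ W₂ F}

theorem exists_mvδ {n : ℕ} (x : H Z F (n + 1) (W₁ ⊔ W₂)) (h₁ : r Z F (n + 1) le_sup_left x = 0)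
    (h₂ : r Z F (n + 1) le_sup_right x = 0) : ∃ η : H Z F n (W₁ ⊓ W₂), mvδ hZ W₁ W₂ F n η = x :=
  CohtopA.MVElem.exists_δ_ext _ _ _ _ (mv_w W₁ W₂) (shortExact hZ W₁ W₂) F n x h₁ h₂

/-- Classes on `W₁`, `W₂` agreeing on `W₁ ⊓ W₂` glue. -/
theorem mv_glue {n : ℕ} (x₁ : H Z F n W₁) (x₂ : H Z F n W₂)
    (h : r Z F n (inf_le_left : W₁ ⊓ W₂ ≤ W₁) x₁ = r Z F n inf_le_right x₂) :
    ∃ x : H Z F n (W₁ ⊔ W₂), r Z F n le_sup_left x = x₁ ∧ r Z F n le_sup_right x = x₂ :=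
  CohtopA.MVElem.exists_glue_ext _ _ _ _ (mv_w W₁ W₂) (shortExact hZ W₁ W₂) F n x₁ x₂ h

theorem mvδ_res_left {n : ℕ} (x : H Z F n W₁) : mvδ hZ W₁ W₂ F n (r Z F n inf_le_left x) = 0 :=
  CohtopA.MVElem.δ_ext_left _ _ _ _ (mv_w W₁ W₂) (shortExact hZ W₁ W₂) F n x

theorem mvδ_res_right {n : ℕ} (x : H Z F n W₂) : mvδ hZ W₁ W₂ F n (r Z F n inf_le_right x) = 0 :=
  CohtopA.MVElem.δ_ext_right _ _ _ _ (mv_w W₁ W₂) (shortExact hZ W₁ W₂) F n x

/-- A class on `W₁ ⊓ W₂` with zero coboundary is a difference of restrictions. -/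
theorem exists_res_sub {n : ℕ} (η : H Z F n (W₁ ⊓ W₂)) (h : mvδ hZ W₁ W₂ F n η = 0) :
    ∃ (x₁ : H Z F n W₁) (x₂ : H Z F n W₂), r Z F n inf_le_left x₁ - r Z F n inf_le_right x₂ = η := by
  obtain ⟨x, hx⟩ := Ext.contravariant_sequence_exact₁ (shortExact hZ W₁ W₂) F η
    (add_comm 1 n) h
  refine ⟨(Ext.mk₀ biprod.inl).comp x (zero_add n), (Ext.mk₀ biprod.inr).comp x (zero_add n), ?_⟩
  rw [← hx]
  have e : (mvS Z W₁ W₂).f = ι Z (inf_le_left : W₁ ⊓ W₂ ≤ W₁) ≫ biprod.inl +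
      -(ι Z (inf_le_right : W₁ ⊓ W₂ ≤ W₂) ≫ biprod.inr) := by
    change biprod.lift _ _ = _
    rw [biprod.lift_eq, Preadditive.neg_comp]
  rw [e, Ext.mk₀_add, Ext.add_comp, Ext.mk₀_neg, Ext.neg_comp, ← sub_eq_add_neg,
    ← Ext.mk₀_comp_mk₀_assoc, ← Ext.mk₀_comp_mk₀_assoc]
  rfl

/-- Naturality of the connecting homomorphism. -/
theorem res_mvδ {V₁ V₂ : Opens Y} (h₁ : V₁ ≤ W₁) (h₂ : V₂ ≤ W₂) {n : ℕ} (η : H Z F n (W₁ ⊓ W₂)) :
    r Z F (n + 1) (sup_le_sup h₁ h₂) (mvδ hZ W₁ W₂ F n η) =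
      mvδ hZ V₁ V₂ F n (r Z F n (inf_le_inf h₁ h₂) η) :=
  CohtopA.MVElem.res_δ_ext _ _ _ _ (mv_w W₁ W₂) (shortExact hZ W₁ W₂) _ _ _ _ (mv_w V₁ V₂)
    (shortExact hZ V₁ V₂) (ι Z (inf_le_inf h₁ h₂)) (ι Z h₁) (ι Z h₂) (ι Z (sup_le_sup h₁ h₂))
    (ι_ι _ _ _ _) (ι_ι _ _ _ _) (ι_ι _ _ _ _) (ι_ι _ _ _ _) F n η

/-- Vanishing criterion: if every class of degree `n` on `W₁ ⊓ W₂` extends to `W₁`, a class of degree
`n + 1` on `W₁ ⊔ W₂` vanishing on `W₁` and `W₂` vanishes. -/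
theorem mv_eq_zero {n : ℕ} (hs : Function.Surjective (r Z F n (inf_le_left : W₁ ⊓ W₂ ≤ W₁)))
    (x : H Z F (n + 1) (W₁ ⊔ W₂)) (h₁ : r Z F (n + 1) le_sup_left x = 0)
    (h₂ : r Z F (n + 1) le_sup_right x = 0) : x = 0 := by
  obtain ⟨η, rfl⟩ := exists_mvδ hZ x h₁ h₂
  obtain ⟨y, rfl⟩ := hs η
  exact mvδ_res_left hZ y

section Inj

variable [EnoughInjectives A]

/-- Classes of positive degree die locally. -/
theorem exists_nhds (n : ℕ) (F : A) {U : Opens Y} (x : H Z F (n + 1) U) (y : Y) (hy : y ∈ U) :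
    ∃ (V : Opens Y) (h : V ≤ U), y ∈ V ∧ r Z F (n + 1) h x = 0 := by
  induction n generalizing F with
  | zero =>
    obtain ⟨S, hS, hI, rfl⟩ := exists_injective F
    obtain ⟨z, rfl⟩ := exists_δ Z hS x (eq_zero_of_injective _ _ _)
    obtain ⟨f, rfl⟩ := exists_mk₀ Z z
    have := hS.epi_g
    obtain ⟨V, h, hyV, t, ht⟩ := hZ.lift S.g f y hy
    refine ⟨V, h, hyV, ?_⟩
    rw [res_δ, res_mk₀]
    change δ Z hS 0 V (Ext.mk₀ (ι Z h ≫ f)) = 0
    rw [← ht, ← map_mk₀, δ_map]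
  | succ n ih =>
    obtain ⟨S, hS, hI, rfl⟩ := exists_injective F
    obtain ⟨z, rfl⟩ := exists_δ Z hS x (eq_zero_of_injective _ _ _)
    obtain ⟨V, h, hyV, hz⟩ := ih S.X₃ z
    refine ⟨V, h, hyV, ?_⟩
    rw [res_δ, hz, map_zero]

omit [EnoughInjectives A] in
/-- Exhaustion lemma, step in degree zero. -/
theorem exhaust_zero {S : ShortComplex A} (hS : S.ShortExact)
    (W : ℕ → Opens Y) (hW : ∀ n, W n ≤ W (n + 1))
    (hs : ∀ n, Function.Surjective (r Z S.X₁ 0 (hW n)))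
    (x : H Z S.X₃ 0 (iSup W)) (h : ∀ n, r Z S.X₁ 1 (le_iSup W n) (δ Z hS 0 _ x) = 0) :
    δ Z hS 0 _ x = 0 := by
  obtain ⟨f, rfl⟩ := exists_mk₀ Z x
  -- lifts on `W n`
  have h1 : ∀ n, ∃ t : Z.obj (W n) ⟶ S.X₂, t ≫ S.g = ι Z (le_iSup W n) ≫ f := by
    intro n
    have h2 := h n
    rw [res_δ, res_mk₀] at h2
    obtain ⟨t, ht⟩ := exists_map_of_δ Z hS _ h2
    obtain ⟨t, rfl⟩ := exists_mk₀ Z t
    rw [map_mk₀] at ht
    exact ⟨t, mk₀_inj Z ht⟩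
  let T : ℕ → Type v := fun n => { t : Z.obj (W n) ⟶ S.X₂ // t ≫ S.g = ι Z (le_iSup W n) ≫ f }
  have h2 : ∀ n (t : T n), ∃ t' : T (n + 1), ι Z (hW n) ≫ t'.1 = t.1 := by
    intro n t
    obtain ⟨t', ht'⟩ := h1 (n + 1)
    have h3 : (t.1 - ι Z (hW n) ≫ t') ≫ S.g = 0 := by
      rw [Preadditive.sub_comp, t.2, assoc, ht', ← assoc, ι_comp, sub_self]
    have := hS.mono_f
    have h4 := hS.exact.lift_f _ h3
    obtain ⟨e, he⟩ := hs n (Ext.mk₀ (hS.exact.lift _ h3))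
    obtain ⟨e, rfl⟩ := exists_mk₀ Z e
    rw [res_mk₀] at he
    have he' : ι Z (hW n) ≫ e = hS.exact.lift _ h3 := mk₀_inj Z he
    refine ⟨⟨t' + e ≫ S.f, ?_⟩, ?_⟩
    · rw [Preadditive.add_comp, assoc, S.zero, comp_zero, add_zero, ht']
    · dsimp only
      rw [Preadditive.comp_add, ← assoc, he', h4]
      abel
  choose next hnext using h2
  let t : ∀ n, T n := fun n => Nat.rec (motive := fun n => T n) ⟨(h1 0).choose, (h1 0).choose_spec⟩
    (fun n t => next n t) n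
  have ht : ∀ n, ι Z (hW n) ≫ (t (n + 1)).1 = (t n).1 := fun n => hnext n (t n)
  have hmono : Monotone W := monotone_nat_of_le_succ hW
  have ht' : ∀ n m (hnm : n ≤ m), ι Z (hmono hnm) ≫ (t m).1 = (t n).1 := by
    intro n m hnm
    induction m, hnm using Nat.le_induction with
    | base => rw [ι_refl, id_comp]
    | succ m hm ih => rw [← ih, ← ht m, ← assoc, ι_comp]
  obtain ⟨s, hs'⟩ := hZ.glue W (iSup W) (le_iSup W) le_rfl (fun n => (t n).1) (by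
    intro i j
    rcases le_total i j with hij | hij
    · rw [← ht' i j hij, ← assoc, ι_comp]
    · rw [← ht' j i hij, ← assoc, ι_comp])
  have h5 : s ≫ S.g = f := by
    refine hZ.hom_ext W (iSup W) (le_iSup W) le_rfl _ _ (fun n => ?_)
    rw [← assoc, hs' n, (t n).2]
  rw [← h5, ← map_mk₀, δ_map]

/-- Exhaustion lemma: let `W n` be an increasing sequence of opens, `F` such that classes of degree
`q` on `W n` extend to `W (n + 1)`. Then a class of degree `q + 1` on the union which vanishes on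
each `W n` vanishes. -/
theorem eq_zero_of_exhaust (q : ℕ) (F : A) (W : ℕ → Opens Y) (hW : ∀ n, W n ≤ W (n + 1))
    (hs : ∀ n, Function.Surjective (r Z F q (hW n)))
    (x : H Z F (q + 1) (iSup W)) (h : ∀ n, r Z F (q + 1) (le_iSup W n) x = 0) : x = 0 := by
  induction q generalizing F with
  | zero =>
    obtain ⟨S, hS, hI, rfl⟩ := exists_injective F
    obtain ⟨z, rfl⟩ := exists_δ Z hS x (eq_zero_of_injective _ _ _)
    exact exhaust_zero hZ hS W hW hs z h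
  | succ q ih =>
    obtain ⟨S, hS, hI, rfl⟩ := exists_injective F
    obtain ⟨z, rfl⟩ := exists_δ Z hS x (eq_zero_of_injective _ _ _)
    have hz : z = 0 := by
      refine ih S.X₃ (fun n => ?_) z (fun n => ?_)
      · intro y
        obtain ⟨y', hy'⟩ := hs n (δ Z hS q _ y)
        obtain ⟨y'', rfl⟩ := exists_δ Z hS y' (eq_zero_of_injective _ _ _)
        rw [res_δ, ← sub_eq_zero, ← map_sub] at hy'
        obtain ⟨i, hi⟩ := exists_map_of_δ Z hS _ hy'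
        have := hZ.mono (hW n)
        obtain ⟨i', rfl⟩ := res_surjective_of_injective Z S.X₂ q (homOfLE (hW n)) i
        refine ⟨y'' - map Z S.g q _ i', ?_⟩
        rw [map_sub]
        rw [← res_map] at hi
        change _ = _ at hi
        rw [hi]
        abel
      · have h1 := h n
        rw [res_δ] at h1
        obtain ⟨i, hi⟩ := exists_map_of_δ Z hS _ h1
        rw [← hi, eq_zero_of_injective Z S.X₂ i, map_zero]
    rw [hz, map_zero]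

end Inj

end Coh

end Groth.Agent.An.H537.Cosheaf
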