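import Mathlib.Algebra.Homology.DerivedCategory.Ext.ExactSequences
import Mathlib.Algebra.Homology.DerivedCategory.Ext.EnoughInjectives

/-!
# Cohomology with respect to a functor `Z : C ⥤ A`, `A` abelian: `H^n(U, F) = Ext^n(Z U, F)`

The functor `Z` is typically `U ↦ ℤ_U` (free abelian sheaf on an object of a site); everything is
stated for a functor to an abstract abelian category to keep elaboration and kernel checking cheap.
* `res`, `res_res`, `res_id`, `map`, `res_map`; `mk₀_...` for degree zero;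
* `δ` (connecting maps of a short exact sequence), `exists_δ`, `exists_map_of_δ`, ...;
* `eq_zero_of_injective`, `res_surjective_of_injective`.
-/

set_option autoImplicit false
universe w v u v' u'

open CategoryTheory Category Limits Abelian

noncomputable section

namespace Groth.Agent.An.H537.Gen

variable {A : Type u} [Category.{v} A] [Abelian A] [HasExt.{w} A]
  {C : Type u'} [Category.{v'} C] (Z : C ⥤ A)

/-- `H^n(U, F)`. -/
abbrev H (F : A) (n : ℕ) (U : C) : Type w := Ext.{w} (Z.obj U) F n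

variable (F : A)

/-- Restriction along `g : V ⟶ U`. -/
def res (n : ℕ) {U V : C} (g : V ⟶ U) : H Z F n U →+ H Z F n V where
  toFun x := (Ext.mk₀ (Z.map g)).comp x (zero_add n)
  map_zero' := Ext.comp_zero _ _ _ _ _
  map_add' _ _ := Ext.comp_add _ _ _ _

theorem res_apply (n : ℕ) {U V : C} (g : V ⟶ U) (x : H Z F n U) :
    res Z F n g x = (Ext.mk₀ (Z.map g)).comp x (zero_add n) := rfl

theorem res_res (n : ℕ) {U V W : C} (g : V ⟶ U) (h : W ⟶ V) (x : H Z F n U) :
    res Z F n h (res Z F n g x) = res Z F n (h ≫ g) x := by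
  rw [res_apply, res_apply, res_apply, Ext.mk₀_comp_mk₀_assoc, Functor.map_comp]

@[simp]
theorem res_id (n : ℕ) {U : C} (x : H Z F n U) : res Z F n (𝟙 U) x = x := by
  rw [res_apply, CategoryTheory.Functor.map_id, Ext.mk₀_id_comp]

theorem res_mk₀ {U V : C} (g : V ⟶ U) (f : Z.obj U ⟶ F) :
    res Z F 0 g (Ext.mk₀ f) = Ext.mk₀ (Z.map g ≫ f) := by
  rw [res_apply, Ext.mk₀_comp_mk₀]

variable {F}

/-- Functoriality in the sheaf. -/
def map {G : A} (φ : F ⟶ G) (n : ℕ) (U : C) : H Z F n U →+ H Z G n U where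
  toFun x := x.comp (Ext.mk₀ φ) (add_zero n)
  map_zero' := Ext.zero_comp _ _ _ _ _
  map_add' _ _ := Ext.add_comp _ _ _ _

theorem map_apply {G : A} (φ : F ⟶ G) (n : ℕ) {U : C} (x : H Z F n U) :
    map Z φ n U x = x.comp (Ext.mk₀ φ) (add_zero n) := rfl

theorem res_map {G : A} (φ : F ⟶ G) (n : ℕ) {U V : C} (g : V ⟶ U)
    (x : H Z F n U) : res Z G n g (map Z φ n U x) = map Z φ n V (res Z F n g x) := by
  rw [res_apply, map_apply, map_apply, res_apply, Ext.comp_assoc_of_third_deg_zero]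

theorem map_mk₀ {G : A} (φ : F ⟶ G) {U : C} (f : Z.obj U ⟶ F) :
    map Z φ 0 U (Ext.mk₀ f) = Ext.mk₀ (f ≫ φ) := by
  rw [map_apply, Ext.mk₀_comp_mk₀]

theorem exists_mk₀ {U : C} (x : H Z F 0 U) : ∃ f : Z.obj U ⟶ F, x = Ext.mk₀ f := by
  obtain ⟨f, rfl⟩ := (Ext.mk₀_bijective _ _).2 x
  exact ⟨f, rfl⟩

theorem mk₀_inj {U : C} {f g : Z.obj U ⟶ F} (h : (Ext.mk₀ f : H Z F 0 U) = Ext.mk₀ g) : f = g :=
  (Ext.mk₀_bijective _ _).1 h

section LES

variable {S : ShortComplex A} (hS : S.ShortExact)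

/-- Connecting homomorphism `H^n(U, S.X₃) → H^(n+1)(U, S.X₁)`. -/
def δ (n : ℕ) (U : C) : H Z S.X₃ n U →+ H Z S.X₁ (n + 1) U where
  toFun x := x.comp hS.extClass rfl
  map_zero' := Ext.zero_comp _ _ _ _ _
  map_add' _ _ := Ext.add_comp _ _ _ _

theorem δ_apply {n : ℕ} {U : C} (x : H Z S.X₃ n U) : δ Z hS n U x = x.comp hS.extClass rfl := rfl

theorem res_δ {n : ℕ} {U V : C} (g : V ⟶ U) (x : H Z S.X₃ n U) :
    res Z S.X₁ (n + 1) g (δ Z hS n U x) = δ Z hS n V (res Z S.X₃ n g x) := by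
  rw [res_apply, δ_apply, δ_apply, res_apply, Ext.comp_assoc _ _ _ _ _ (by omega)]

/-- A class of degree `n + 1` dying in the middle term is a coboundary. -/
theorem exists_δ {n : ℕ} {U : C} (x : H Z S.X₁ (n + 1) U) (hx : map Z S.f (n + 1) U x = 0) :
    ∃ y : H Z S.X₃ n U, δ Z hS n U y = x := by
  obtain ⟨y, hy⟩ := Ext.covariant_sequence_exact₁ _ hS x hx (rfl : n + 1 = n + 1)
  exact ⟨y, hy⟩

/-- A class with zero coboundary lifts to the middle term. -/
theorem exists_map_of_δ {n : ℕ} {U : C} (x : H Z S.X₃ n U) (hx : δ Z hS n U x = 0) :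
    ∃ y : H Z S.X₂ n U, map Z S.g n U y = x := by
  obtain ⟨y, hy⟩ := Ext.covariant_sequence_exact₃ _ hS x rfl hx
  exact ⟨y, hy⟩

include hS in
/-- A class dying in the quotient comes from the subobject. -/
theorem exists_map {n : ℕ} {U : C} (x : H Z S.X₂ n U) (hx : map Z S.g n U x = 0) :
    ∃ y : H Z S.X₁ n U, map Z S.f n U y = x := by
  obtain ⟨y, hy⟩ := Ext.covariant_sequence_exact₂ _ hS x hx
  exact ⟨y, hy⟩

theorem δ_map {n : ℕ} {U : C} (x : H Z S.X₂ n U) : δ Z hS n U (map Z S.g n U x) = 0 := by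
  rw [δ_apply, map_apply, Ext.comp_assoc x (Ext.mk₀ S.g) hS.extClass (add_zero n) (zero_add 1)
    (by omega), hS.comp_extClass, Ext.comp_zero]

theorem map_f_δ {n : ℕ} {U : C} (x : H Z S.X₃ n U) :
    map Z S.f (n + 1) U (δ Z hS n U x) = 0 := by
  rw [δ_apply, map_apply, Ext.comp_assoc x hS.extClass (Ext.mk₀ S.f) rfl (add_zero 1)
    (by omega), hS.extClass_comp, Ext.comp_zero]

include hS in
theorem map_f_injective_zero {U : C} (x : H Z S.X₁ 0 U) (hx : map Z S.f 0 U x = 0) : x = 0 := by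
  obtain ⟨f, rfl⟩ := exists_mk₀ Z x
  have := hS.mono_f
  rw [map_mk₀] at hx
  have h0 : f ≫ S.f = 0 := by
    apply mk₀_inj Z
    rw [hx, Ext.mk₀_zero]
  have h1 : f = 0 := by rw [← cancel_mono S.f, h0, zero_comp]
  rw [h1, Ext.mk₀_zero]

end LES

/-- Classes of positive degree in an injective sheaf vanish. -/
theorem eq_zero_of_injective (I : A) [Injective I] {n : ℕ} {U : C}
    (x : H Z I (n + 1) U) : x = 0 := Ext.eq_zero_of_injective x

/-- Cohomology of injective sheaves is flasque. -/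
theorem res_surjective_of_injective (I : A) [Injective I] (n : ℕ)
    {U V : C} (g : V ⟶ U) [Mono (Z.map g)] : Function.Surjective (res Z I n g) := by
  intro x
  cases n with
  | zero =>
    obtain ⟨f, rfl⟩ := (Ext.mk₀_bijective _ _).2 x
    refine ⟨Ext.mk₀ (Injective.factorThru f (Z.map g)), ?_⟩
    rw [res_apply, Ext.mk₀_comp_mk₀, Injective.comp_factorThru]
  | succ n => exact ⟨0, by rw [map_zero, eq_zero_of_injective Z I x]⟩

omit [HasExt.{w} A] in
variable (F) in
/-- An embedding of `F` in an injective object, as a short exact sequence. -/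
theorem exists_injective [EnoughInjectives A] : ∃ (S : ShortComplex A) (_ : S.ShortExact)
    (_ : Injective S.X₂), S.X₁ = F := by
  let I : InjectivePresentation F := Classical.arbitrary _
  refine ⟨ShortComplex.mk _ _ (cokernel.condition I.f), ?_, I.injective, rfl⟩
  exact { exact := ShortComplex.exact_cokernel I.f }

end Groth.Agent.An.H537.Gen
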