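import Groth.Agent.An.H537.Cosheaf
import Groth.Agent.Proet.ZU
import Mathlib.CategoryTheory.Sites.LocallySurjective
import Mathlib.CategoryTheory.Sites.EpiMono

/-!
# The cosheaf `U ↦ ℤ_{Φ U}` of a nice functor `Φ : Opens Y ⥤ C` to a site

* `mono_zF_map` : `ℤ_V ⟶ ℤ_U` is mono for `V ⟶ U` mono;
* `exists_lift` : sections lift locally along epimorphisms of sheaves;
* `OpenLike Φ J` : `Φ` sends open coverings to coverings, intersections to intersections, and
  coverings of `Φ U` are refined by open coverings of `U`;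
* `OpenLike.isCosheaf` : then `Φ ⋙ zF J` is a cosheaf in the sense of `Cosheaf`.
-/

set_option autoImplicit false
universe w v u t

open CategoryTheory Category Limits Opposite TopologicalSpace

noncomputable section

namespace Groth.Agent.An.H537.SiteCosheaf

open Groth.Agent.Proet Cosheaf

variable {C : Type u} [Category.{v} C] [LocallySmall.{w} C] {J : GrothendieckTopology C}
  [HasSheafify J AddCommGrpCat.{w}]

instance mono_zF_map {U V : C} (h : U ⟶ V) [Mono h] : Mono ((ZU.zF.{w} J).map h) := by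
  have : Mono (ZU.zPre.{w}.map h) := by
    have h1 : ∀ W, Mono ((ZU.zPre.{w}.map h).app W) := by
      intro W
      change Mono (AddCommGrpCat.free.map ((shrinkYoneda.{w}.map h).app W))
      have : Mono ((shrinkYoneda.{w}.map h).app W) := by
        rw [mono_iff_injective]
        intro a b hab
        apply shrinkYonedaObjObjEquiv.injective
        rw [← cancel_mono h]
        have e1 := shrinkYoneda_map_app_shrinkYonedaObjObjEquiv_symm
          (shrinkYonedaObjObjEquiv.{w} a) h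
        have e2 := shrinkYoneda_map_app_shrinkYonedaObjObjEquiv_symm
          (shrinkYonedaObjObjEquiv.{w} b) h
        rw [Equiv.symm_apply_apply] at e1 e2
        apply shrinkYonedaObjObjEquiv.{w}.symm.injective
        exact e1.symm.trans (hab.trans e2)
      infer_instance
    exact NatTrans.mono_of_mono_app _
  have : PreservesFiniteLimits (presheafToSheaf J AddCommGrpCat.{w}) := inferInstance
  exact (presheafToSheaf J AddCommGrpCat.{w}).map_mono _

theorem exists_lift [J.WEqualsLocallyBijective AddCommGrpCat.{w}] {I Q : Sheaf J AddCommGrpCat.{w}}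
    (p : I ⟶ Q) [Epi p] {U : C} (s : (ZU.zF.{w} J).obj U ⟶ Q) :
    ∃ S ∈ J U, ∀ {V : C} (g : V ⟶ U), S g →
      ∃ t : (ZU.zF.{w} J).obj V ⟶ I, t ≫ p = (ZU.zF.{w} J).map g ≫ s := by
  have hls : Sheaf.IsLocallySurjective p := by
    rw [Sheaf.isLocallySurjective_iff_epi']
    infer_instance
  refine ⟨Presheaf.imageSieve p.hom (ZU.ev J U Q s), hls.imageSieve_mem _, ?_⟩
  rintro V g ⟨t, ht⟩
  refine ⟨(ZU.ev J V I).symm t, ?_⟩
  apply (ZU.ev J V Q).injective
  rw [ZU.ev_comp, AddEquiv.apply_symm_apply, ZU.ev_map_comp]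
  exact ht

variable {Y : Type t} [TopologicalSpace Y] (Φ : Opens Y ⥤ C)

/-- The functor `Φ` behaves like the inclusion of the opens of a space in a site. -/
structure OpenLike (J : GrothendieckTopology C) : Prop where
  mono : ∀ {V U : Opens Y} (h : V ≤ U), Mono (Φ.map (homOfLE h))
  cover : ∀ {I : Type} (U : I → Opens Y) (V : Opens Y) (hi : ∀ i, U i ≤ V) (_ : V ≤ iSup U),
    Sieve.generate (Presieve.ofArrows _ (fun i => Φ.map (homOfLE (hi i)))) ∈ J (Φ.obj V)
  inter : ∀ {U₁ U₂ V : Opens Y} (h₁ : U₁ ≤ V) (h₂ : U₂ ≤ V) {W : C} (g₁ : W ⟶ Φ.obj U₁)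
    (g₂ : W ⟶ Φ.obj U₂), g₁ ≫ Φ.map (homOfLE h₁) = g₂ ≫ Φ.map (homOfLE h₂) →
      ∃ g : W ⟶ Φ.obj (U₁ ⊓ U₂), g ≫ Φ.map (homOfLE inf_le_left) = g₁ ∧
        g ≫ Φ.map (homOfLE inf_le_right) = g₂
  refine : ∀ {U : Opens Y} (S : Sieve (Φ.obj U)) (_ : S ∈ J (Φ.obj U)) (y : Y), y ∈ U →
    ∃ (V : Opens Y) (h : V ≤ U), y ∈ V ∧ S (Φ.map (homOfLE h))

variable {Φ}

omit [LocallySmall.{w} C] [HasSheafify J AddCommGrpCat.{w}] in
theorem OpenLike.isSheafFor (hΦ : OpenLike Φ J) (F : Sheaf J AddCommGrpCat.{w}) {I : Type}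
    (U : I → Opens Y) (V : Opens Y) (hi : ∀ i, U i ≤ V) (hV : V ≤ iSup U) :
    Presieve.IsSheafFor (F.obj ⋙ forget AddCommGrpCat.{w})
      (Presieve.ofArrows _ (fun i => Φ.map (homOfLE (hi i)))) := by
  rw [Presieve.isSheafFor_iff_generate]
  have h1 : Presieve.IsSheaf J (F.obj ⋙ forget AddCommGrpCat.{w}) :=
    (isSheaf_iff_isSheaf_of_type _ _).1 (GrothendieckTopology.HasSheafCompose.isSheaf _ F.property)
  exact h1 _ (hΦ.cover U V hi hV)

/-- `U ↦ ℤ_{Φ U}` is a cosheaf. -/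
theorem OpenLike.isCosheaf [J.WEqualsLocallyBijective AddCommGrpCat.{w}] (hΦ : OpenLike Φ J) :
    IsCosheaf (Φ ⋙ ZU.zF.{w} J) where
  mono {V U} h := by
    have := hΦ.mono h
    exact mono_zF_map (J := J) (Φ.map (homOfLE h))
  hom_ext {I} U V hi hV {F} f g hfg := by
    apply (ZU.ev J (Φ.obj V) F).injective
    have h1 := hΦ.isSheafFor F U V hi hV
    refine h1.isSeparatedFor.ext ?_
    rintro _ _ ⟨i⟩
    have h2 := congrArg (ZU.ev J (Φ.obj (U i)) F) (hfg i)
    have h3 := ZU.ev_map_comp (J := J) (Φ.map (homOfLE (hi i))) f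
    have h4 := ZU.ev_map_comp (J := J) (Φ.map (homOfLE (hi i))) g
    exact h3.symm.trans (h2.trans h4)
  glue {I} U V hi hV {F} s hs := by
    have h1 := hΦ.isSheafFor F U V hi hV
    rw [Presieve.isSheafFor_arrows_iff] at h1
    obtain ⟨t, ht, -⟩ := h1 (fun i => ZU.ev J (Φ.obj (U i)) F (s i)) (by
      intro i j W g₁ g₂ hg
      obtain ⟨g, e₁, e₂⟩ := hΦ.inter (hi i) (hi j) g₁ g₂ hg
      have h2 := congrArg (ZU.ev J (Φ.obj (U i ⊓ U j)) F) (hs i j)
      have h3 := ZU.ev_map_comp (J := J) (Φ.map (homOfLE (inf_le_left : U i ⊓ U j ≤ U i))) (s i)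
      have h4 := ZU.ev_map_comp (J := J) (Φ.map (homOfLE (inf_le_right : U i ⊓ U j ≤ U j))) (s j)
      have h5 : F.obj.map (Φ.map (homOfLE (inf_le_left : U i ⊓ U j ≤ U i))).op
          (ZU.ev J (Φ.obj (U i)) F (s i)) =
          F.obj.map (Φ.map (homOfLE (inf_le_right : U i ⊓ U j ≤ U j))).op
          (ZU.ev J (Φ.obj (U j)) F (s j)) := h3.symm.trans (h2.trans h4)
      have h6 := congrArg (F.obj.map g.op) h5
      have h7 : F.obj.map g₁.op (ZU.ev J (Φ.obj (U i)) F (s i)) =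
          F.obj.map g₂.op (ZU.ev J (Φ.obj (U j)) F (s j)) := by
        rw [← e₁, ← e₂, op_comp, op_comp, F.obj.map_comp, F.obj.map_comp]
        exact h6
      exact h7)
    refine ⟨(ZU.ev J (Φ.obj V) F).symm t, fun i => ?_⟩
    apply (ZU.ev J (Φ.obj (U i)) F).injective
    have h3 := ZU.ev_map_comp (J := J) (Φ.map (homOfLE (hi i))) ((ZU.ev J (Φ.obj V) F).symm t)
    rw [AddEquiv.apply_symm_apply] at h3
    exact h3.trans (ht i)
  lift {I Q} p _ {U} s y hy := by
    obtain ⟨S, hS, h⟩ := exists_lift p s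
    obtain ⟨V, hV, hyV, hSV⟩ := hΦ.refine S hS y hy
    exact ⟨V, hV, hyV, h _ hSV⟩

end Groth.Agent.An.H537.SiteCosheaf
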